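import Groth.Agent.AGF.K702.Lie
import Groth.Agent.RedSub.H368.NormalBot

/-!
# The determinant of the positive block of the adjoint representation

`K` a field: `D(g) = det (ad E g)` satisfies `D(b⁻ g b⁺) = 2ρ(b⁻) D(g) 2ρ(b⁺)`, and for `K` algebraically closed
`D(g) ≠ 0` iff `g` lies in the big cell.  `exists_semi`: the element of `A` with values `D`.
-/

set_option autoImplicit false
set_option linter.unusedSectionVars false
universe u

namespace K702.Hab

open TrivSqZeroExt
open Groth.Agent.Sga3B Groth.Agent.Sga3B.Cell Groth.Agent.Sga3B.Word Groth.Agent.Sga3B.MT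
open Groth.Agent.RedSub.H638.WeylBase Groth.Agent.RedSub.H638.WeylCover
open Groth.Agent.RedSub.H662 Panel PosPt Homog
open Groth.Agent.RedSub.H368.NormalBot

variable {idx M : Type} [Fintype idx] [AddCommGroup M] [Module.Free ℤ M]
    [Module.Finite ℤ M] {P : RootPairing idx ℤ M (Module.Dual ℤ M)} {b : P.Base}
    {K A : Type u} [Field K] [CommRing A] [Algebra K A] [PtGrp K A] (E : PinCell P b K A)

/-- the sum of the positive roots -/
noncomputable def tworho (b : P.Base) : M := ∑ c : PI b, P.root c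

section B

variable {B : Type u} [CommRing B] [Algebra K B]

open Classical in
/-- the determinant of the positive block -/
noncomputable def dt (g : Pt K A B) : B := (ad E g).det

lemma dt_one : dt E (1 : Pt K A B) = 1 := by
  classical
  unfold dt
  rw [ad_one, Matrix.det_one]

lemma dt_nat {C : Type u} [CommRing C] [Algebra K C] (ψ : B →ₐ[K] C) (g : Pt K A B) :
    dt E (Pt.map ψ g) = ψ (dt E g) := by
  classical
  unfold dt
  rw [ad_nat, AlgHom.map_det]
  rfl

lemma dt_mul_bor (g : Pt K A B) {h : Pt K A B} (hh : h ∈ Bor E B) : dt E (g * h) = dt E g * dt E h := by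
  classical
  unfold dt
  rw [ad_mul_bor E g hh, Matrix.det_mul]

lemma dt_bm_mul {g : Pt K A B} (hg : g ∈ Bm E B) (h : Pt K A B) : dt E (g * h) = dt E g * dt E h := by
  classical
  unfold dt
  rw [ad_bm_mul E hg h, Matrix.det_mul]

lemma ch_sum {ι : Type*} (s : Finset ι) (f : ι → M) (t : TPt M B) :
    TPt.ch (∑ c ∈ s, f c) t = ∏ c ∈ s, TPt.ch (f c) t := by
  classical
  induction s using Finset.induction_on with
  | empty => simp
  | insert a s ha ih => rw [Finset.sum_insert ha, Finset.prod_insert ha, TPt.ch_add, ih]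

lemma adP_i (t : TPt M B) (d : idx) : adP E (E.i B t) d =
    Pt.map (eScale K (TPt.ch (P.root d) t)) (E.uu d (Eps B) (inr 1)) := by
  have h1 : cst (E.i B t) = E.i (Eps B) (TPt.map (eInl K B) t) := E.i_nat _ _
  rw [adP, h1, E.rel, E.uu_nat]
  congr 1
  rw [TPt.ch_map]
  ext <;> simp

lemma dt_i (t : TPt M B) : dt E (E.i B t) = TPt.ch (tworho b) t := by
  classical
  have h1 : ad E (E.i B t) = Matrix.diagonal fun c : PI b => TPt.ch (P.root c) t := by
    refine Matrix.ext fun c d => ?_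
    rw [ad_apply, adP_i, Zc_scale E (isKer_uu E d 1)]
    have h2 : Zc E (E.uu d (Eps B) (inr 1)) c = ad E (1 : Pt K A B) c d := by
      rw [ad_apply, adP, cst_one]
      congr 2
      group
    change TPt.ch (P.root d) t * Zc E (E.uu d (Eps B) (inr 1)) c = _
    rw [h2, ad_one, Matrix.one_apply, Matrix.diagonal_apply]
    by_cases hcd : c = d
    · subst hcd; simp
    · rw [if_neg hcd, if_neg hcd, mul_zero]
  unfold dt
  rw [h1, Matrix.det_diagonal, tworho, ch_sum]

end B

section B'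

variable {B : Type u} [CommRing B] [Algebra K B]

open Polynomial in
lemma dt_uu_aux (c : idx) (h : ∀ (B : Type u) [CommRing B] [Algebra K B] (x y : B),
    dt E (E.uu c B x * E.uu c B y) = dt E (E.uu c B x) * dt E (E.uu c B y)) (x : B) :
    dt E (E.uu c B x) = 1 := by
  have h1 : dt E (E.uu c K[X] X) * dt E (E.uu c K[X] (-X)) = 1 := by
    rw [← h, ← E.uu_add, add_neg_cancel, E.uu_zero, dt_one]
  obtain ⟨r, -, hr⟩ := Polynomial.isUnit_iff.1 (IsUnit.of_mul_eq_one _ h1)
  have h2 : ∀ {B : Type u} [CommRing B] [Algebra K B] (x : B), dt E (E.uu c B x) = algebraMap K B r := by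
    intro B _ _ x
    have h3 := E.uu_nat c (Polynomial.aeval x : K[X] →ₐ[K] B) X
    rw [Polynomial.aeval_X] at h3
    rw [← h3, dt_nat, ← hr, Polynomial.aeval_C]
  rw [h2 x, ← h2 0, E.uu_zero, dt_one]

lemma dt_uu_pos {c : idx} (hc : b.IsPos c) (x : B) : dt E (E.uu c B x) = 1 :=
  dt_uu_aux E c (fun _ _ _ _ y => dt_mul_bor E _ (uu_mem_Bor E hc y)) x

lemma dt_uu_neg {c : idx} (hc : ¬ b.IsPos c) (x : B) : dt E (E.uu c B x) = 1 :=
  dt_uu_aux E c (fun _ _ _ x _ => dt_bm_mul E (Um_le_Bm E (uu_mem_Um E hc x)) _) x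

lemma dt_up {u : Pt K A B} (hu : u ∈ Up E B) : dt E u = 1 := by
  obtain ⟨x, rfl⟩ := hu
  rw [posP]
  have key : ∀ L : List idx, (∀ c ∈ L, b.IsPos c) →
      dt E (L.map (fun a => E.uu a B (x a))).prod = 1 := by
    intro L hL
    induction L with
    | nil => simp [dt_one]
    | cons a l ih =>
      have hl : ∀ c ∈ l, b.IsPos c := fun c hc => hL c (List.mem_cons_of_mem _ hc)
      rw [List.map_cons, List.prod_cons, dt_mul_bor, ih hl, dt_uu_pos E (hL a List.mem_cons_self),
        mul_one]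
      apply Subgroup.list_prod_mem
      intro y hy
      obtain ⟨c, hc, rfl⟩ := List.mem_map.mp hy
      exact uu_mem_Bor E (hl c hc) _
  exact key _ fun c hc => (mem_posList b).mp hc

lemma dt_um {u : Pt K A B} (hu : u ∈ Um E B) : dt E u = 1 := by
  obtain ⟨x, rfl⟩ := hu
  rw [negP]
  have key : ∀ L : List idx, (∀ c ∈ L, ¬ b.IsPos c) →
      dt E (L.map (fun a => E.uu a B (x a))).prod = 1 := by
    intro L hL
    induction L with
    | nil => simp [dt_one]
    | cons a l ih =>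
      have hl : ∀ c ∈ l, ¬ b.IsPos c := fun c hc => hL c (List.mem_cons_of_mem _ hc)
      rw [List.map_cons, List.prod_cons, dt_bm_mul E (Um_le_Bm E (uu_mem_Um E
        (hL a List.mem_cons_self) _)), ih hl, dt_uu_neg E (hL a List.mem_cons_self), mul_one]
  exact key _ fun c hc => (mem_negList b).mp hc

/-- **semi-invariance of the determinant** -/
lemma dt_cell' (x : idx → B) (t : TPt M B) : dt E (E.cell x t) = TPt.ch (tworho b) t := by
  rw [cell_eq_mul, dt_mul_bor E _ (i_mem_Bor E t), dt_i, dt_mul_bor E _ (Up_le_Bor E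
    (posP_mem_Up E x)), dt_um E (negP_mem_Um E x), dt_up E (posP_mem_Up E x), one_mul, one_mul]

end B'

section alg

variable [IsAlgClosed K]

/-- monomial elements -/
def Mono (w : Equiv.Perm idx) (n : Pt K A K) : Prop :=
  ∀ c : idx, ∃ r : Kˣ, ∀ {B : Type u} [CommRing B] [Algebra K B] (x : B),
    Pt.map (Algebra.ofId K B) n * E.uu c B x * (Pt.map (Algebra.ofId K B) n)⁻¹ =
      E.uu (w c) B (algebraMap K B r * x)

lemma mono_nw {l : List idx} (hl : ∀ a ∈ l, a ∈ b.support) : Mono E (wp P l) (nw E K l) := by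
  intro c
  obtain ⟨r, hr⟩ := conj_nw E hl c
  refine ⟨r, fun {B} _ _ x => ?_⟩
  rw [nw_nat, hr]

lemma Mono.inv {w : Equiv.Perm idx} {n : Pt K A K} (h : Mono E w n) : Mono E w⁻¹ n⁻¹ := by
  intro c
  obtain ⟨r, hr⟩ := h (w⁻¹ c)
  refine ⟨r⁻¹, fun {B} _ _ x => ?_⟩
  have h1 := hr (algebraMap K B ((r⁻¹ : Kˣ) : K) * x)
  have h0 : w (w⁻¹ c) = c := w.apply_symm_apply c
  rw [h0, ← mul_assoc, ← map_mul, Units.mul_inv, map_one, one_mul] at h1
  rw [← h1, Pt.map_inv]
  group

lemma Mono.mul {w w' : Equiv.Perm idx} {n n' : Pt K A K} (h : Mono E w n) (h' : Mono E w' n') :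
    Mono E (w * w') (n * n') := by
  intro c
  obtain ⟨r, hr⟩ := h' c
  obtain ⟨s, hs⟩ := h (w' c)
  refine ⟨s * r, fun {B} _ _ x => ?_⟩
  rw [Equiv.Perm.mul_apply, Units.val_mul, map_mul, mul_assoc (algebraMap K B s), ← hs, ← hr,
    Pt.map_mul]
  group

/-- a monomial element with nonzero determinant preserves the positive roots -/
lemma Mono.isPos_of_dt_ne_zero {w : Equiv.Perm idx} {n : Pt K A K} (h : Mono E w n)
    (hn : dt E n ≠ 0) {c : idx} (hc : b.IsPos c) : b.IsPos (w c) := by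
  classical
  by_contra hneg
  apply hn
  unfold dt
  apply Matrix.det_eq_zero_of_column_eq_zero (⟨c, hc⟩ : PI b)
  intro d
  rw [ad_apply]
  obtain ⟨r, hr⟩ := h c
  have h1 := hr (B := Eps K) (inr 1)
  have h2 : Pt.map (Algebra.ofId K (Eps K)) n = cst n := rfl
  have h3 : adP E n c = E.uu (w c) (Eps K) (algebraMap K (Eps K) r * inr 1) := by
    rw [adP, ← h2]
    exact h1
  exact Zc_of_mem_Bm E (isKer_adP E n c) (by
    change adP E n c ∈ _
    rw [h3]
    exact Um_le_Bm E (uu_mem_Um E hneg _)) d.2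

lemma Mono.conj_mem_Um {w : Equiv.Perm idx} {n : Pt K A K} (h : Mono E w n)
    (hw : ∀ c, ¬ b.IsPos c → ¬ b.IsPos (w c)) {v : Pt K A K} (hv : v ∈ Um E K) :
    n * v * n⁻¹ ∈ Um E K := by
  have h1 : Um E K ≤ (Um E K).comap (MulAut.conj n).toMonoidHom := by
    apply Um_le
    intro c hc x
    rw [Subgroup.mem_comap]
    obtain ⟨r, hr⟩ := h c
    have h2 := hr x
    have h3 : Pt.map (Algebra.ofId K K) n = n := rfl
    rw [h3] at h2
    change n * E.uu c K x * n⁻¹ ∈ _
    rw [h2]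
    exact uu_mem_Um E (hw c hc) _
  exact h1 hv

/-- an element normalising `U⁻` lies in the big cell -/
lemma inC_of_conj {n : Pt K A K} (h : ∀ v ∈ Um E K, n * v * n⁻¹ ∈ Um E K) : InC E n := by
  obtain ⟨x, t, x', t', hx⟩ := exists_mul_cell E n
  obtain ⟨v, hv, c, hc, h1⟩ := (inC_iff E).1 ⟨x, t, rfl⟩
  obtain ⟨v', hv', c', hc', h2⟩ := (inC_iff E).1 ⟨x', t', rfl⟩
  have h3 : n = ((n * v * n⁻¹)⁻¹ * v') * (c' * c⁻¹) := by
    rw [h1, h2] at hx
    have h4 : (n * v * n⁻¹) * n * c = v' * c' := by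
      rw [← hx]; group
    calc n = (n * v * n⁻¹)⁻¹ * ((n * v * n⁻¹) * n * c) * c⁻¹ := by group
      _ = (n * v * n⁻¹)⁻¹ * (v' * c') * c⁻¹ := by rw [h4]
      _ = _ := by group
  rw [inC_iff]
  exact ⟨_, mul_mem (inv_mem (h v hv)) hv', _, mul_mem hc' (inv_mem hc), h3⟩

/-- the determinant vanishes outside the big cell -/
theorem inC_of_dt_ne_zero {g : Pt K A K} (hg : dt E g ≠ 0) : InC E g := by
  obtain ⟨L, hL, hlong⟩ := exists_longest b
  obtain ⟨l, hl, b₁, hb₁, b₂, hb₂, h⟩ := bruhat E (nw E K L * g)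
  -- `n_L⁻¹ b₁ n_L ∈ B⁻`
  obtain ⟨u, hu, t, rfl⟩ := hb₁
  obtain ⟨t', ht'⟩ := conj_nw_inv_i (B := K) E hL t
  have hu' : (nw E K L)⁻¹ * u * nw E K L ∈ Um E K := by
    have h1 : Up E K ≤ (Um E K).comap (MulAut.conj (nw E K L)⁻¹).toMonoidHom := by
      apply Up_le
      intro c hc x
      rw [Subgroup.mem_comap]
      obtain ⟨r, hr⟩ := conj_nw_inv E hL c
      have h2 : (MulAut.conj (nw E K L)⁻¹).toMonoidHom (E.uu c K x) =
          (nw E K L)⁻¹ * E.uu c K x * nw E K L := by simp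
      rw [h2, hr]
      exact uu_mem_Um E (hlong c hc) _
    have h3 := h1 hu
    rw [Subgroup.mem_comap] at h3
    simpa using h3
  set n := (nw E K L)⁻¹ * nw E K l with hn
  have hmono : Mono E ((wp P L)⁻¹ * wp P l) n := (mono_nw E hL).inv.mul E (mono_nw E hl)
  have hg' : g = ((nw E K L)⁻¹ * u * nw E K L) * E.i K t' * n * b₂ := by
    have h1 : g = (nw E K L)⁻¹ * (u * E.i K t * nw E K l * b₂) := by rw [← h]; group
    rw [h1, ← ht', hn]; group
  obtain ⟨v, hv, s, rfl⟩ := hb₂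
  have hn0 : dt E n ≠ 0 := by
    intro h0
    apply hg
    rw [hg', dt_mul_bor E _ (mul_mem (Up_le_Bor E hv) (i_mem_Bor E s)), dt_bm_mul E (mul_mem
      (Um_le_Bm E hu') (i_mem_Bm E t')), h0, mul_zero, zero_mul]
  have hpos : ∀ c, b.IsPos c → b.IsPos (((wp P L)⁻¹ * wp P l) c) := fun c hc =>
    hmono.isPos_of_dt_ne_zero E hn0 hc
  have hneg : ∀ c, ¬ b.IsPos c → ¬ b.IsPos (((wp P L)⁻¹ * wp P l) c) := by
    intro c hc h1
    have h2 := hpos (P.reflectionPerm c c) (isPos_neg_iff.2 hc)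
    have h3 : ((wp P L)⁻¹ * wp P l) (P.reflectionPerm c c) =
        P.reflectionPerm (((wp P L)⁻¹ * wp P l) c) (((wp P L)⁻¹ * wp P l) c) := by
      rw [Equiv.Perm.mul_apply, wp_neg]
      exact wp_symm_neg L _
    rw [h3] at h2
    exact (isPos_neg_iff.1 h2) h1
  have hC : InC E n := inC_of_conj E fun v hv => hmono.conj_mem_Um E hneg hv
  rw [hg']
  refine InC.mul_bor E ?_ (mul_mem (Up_le_Bor E hv) (i_mem_Bor E s))
  rw [mul_assoc]
  exact InC.um_mul E (InC.i_mul E hC t') hu'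

end alg

/-- the universal point -/
def upt (K A : Type u) [Field K] [CommRing A] [Algebra K A] : Pt K A A := Pt.mk (AlgHom.id K A)

lemma map_upt {B : Type u} [CommRing B] [Algebra K B] (g : Pt K A B) : Pt.map g.hom (upt K A) = g := rfl

/-- the determinant as a function on the group -/
noncomputable def dtf : A := dt E (upt K A)

lemma hom_dtf {B : Type u} [CommRing B] [Algebra K B] (g : Pt K A B) : g.hom (dtf E) = dt E g := by
  rw [dtf, ← dt_nat, map_upt]

end K702.Hab
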