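import Groth.Agent.AGF.K702.Rel

/-!
# The dimension bound

In characteristic `p`, with `q = p ^ r` and `⟨lam, γ^∨⟩ = q - 1` for all simple roots `γ`: the space of
functions with `a(b⁻ g) = lam(b⁻) a(g)` has dimension at most `q ^ N`, `N` the number of positive roots.
-/

set_option autoImplicit false
set_option linter.unusedSectionVars false
universe u

namespace K702.Hab

open Groth.Agent.Sga3B Groth.Agent.Sga3B.Cell Groth.Agent.Sga3B.Word Groth.Agent.Sga3B.MT
open Groth.Agent.RedSub.H638.WeylBase Groth.Agent.RedSub.H638.WeylCover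
open Groth.Agent.RedSub.H662 Panel PosPt Homog
open MvPolynomial

variable {idx M : Type} [Fintype idx] [AddCommGroup M] [Module.Free ℤ M]
    [Module.Finite ℤ M] {P : RootPairing idx ℤ M (Module.Dual ℤ M)} {b : P.Base}
    {K A : Type u} [Field K] [CommRing A] [Algebra K A] [PtGrp K A]
    (E : PinCell P b K A)

/-- restriction of functions to `U⁺` -/
noncomputable def res : A →ₐ[K] KU b K := (pu E (X : PI b → KU b K)).hom

lemma aeval_res {B : Type u} [CommRing B] [Algebra K B] (x : PI b → B) (a : A) :
    aeval x (res E a) = (pu E x).hom a := by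
  have h := map_pu_X E x
  exact congrArg (fun k : Pt K A B => k.hom a) h

lemma eval_res (x : PI b → K) (a : A) : eval x (res E a) = (pu E x).hom a := by
  rw [← aeval_res, aeval_eq_eval]

/-- the expansion of the right translates in the coordinates of the translating element -/
noncomputable def Tx (z : PI b → MvPolynomial (PI b ⊕ PI b) K) (h : KU b K) :
    MvPolynomial (PI b) (KU b K) :=
  sumAlgEquiv K (PI b) (PI b) (rename Sum.swap (aeval z h))

lemma coeff_Tx (z : PI b → MvPolynomial (PI b ⊕ PI b) K) (h : KU b K) (e m : PI b →₀ ℕ) :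
    coeff m (coeff e (Tx z h)) = coeff (Finsupp.sumElim m e) (aeval z h) := by
  classical
  rw [Tx, coeff_sumAlg]
  have h2 : Finsupp.sumElim e m =
      Finsupp.mapDomain (Sum.swap : PI b ⊕ PI b → PI b ⊕ PI b) (Finsupp.sumElim m e) := by
    have hinj : Function.Injective (Sum.swap : PI b ⊕ PI b → PI b ⊕ PI b) :=
      Sum.swap_leftInverse.injective
    ext c
    rcases c with c | c
    · have := Finsupp.mapDomain_apply hinj (Finsupp.sumElim m e) (Sum.inr c)
      simp only [Sum.swap_inr] at this
      rw [this]; simp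
    · have := Finsupp.mapDomain_apply hinj (Finsupp.sumElim m e) (Sum.inl c)
      simp only [Sum.swap_inl] at this
      rw [this]; simp
  rw [h2, coeff_rename_mapDomain _ Sum.swap_leftInverse.injective]

lemma eval_eval_Tx (z : PI b → MvPolynomial (PI b ⊕ PI b) K) (h : KU b K) (x y : PI b → K) :
    eval x (eval (fun c => C (y c)) (Tx z h)) = eval (Sum.elim x y) (aeval z h) := by
  have h2 : (eval (Sum.elim x y) : MvPolynomial (PI b ⊕ PI b) K →+* K) =
      (((eval x).comp (eval fun c => (C (y c) : KU b K))).comp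
        (sumAlgEquiv K (PI b) (PI b) : _ →+* _)).comp
        (rename Sum.swap : MvPolynomial (PI b ⊕ PI b) K →ₐ[K] MvPolynomial (PI b ⊕ PI b) K).toRingHom := by
    apply MvPolynomial.ringHom_ext
    · intro a
      simp
    · intro i
      rcases i with i | i
      · simp
      · simp
  exact (DFunLike.congr_fun h2 (aeval z h)).symm

variable [IsAlgClosed K] [IsDomain A] {lam : M}

section key

variable {z : PI b → MvPolynomial (PI b ⊕ PI b) K}
  (hz : ∀ {B : Type u} [CommRing B] [Algebra K B] (x y : PI b → B),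
      pu E x * pu E y = pu E (fun c => aeval (Sum.elim x y) (z c)))
  (hz1 : ∀ c, aeval (Sum.elim X 0 : PI b ⊕ PI b → MvPolynomial (PI b) K) (z c) = X c)

include hz in
lemma res_rtr (a : A) (y : PI b → K) :
    res E (rtr (pu E y) a) = eval (fun c => C (y c)) (Tx z (res E a)) := by
  have hinf : Infinite K := IsAlgClosed.instInfinite
  apply MvPolynomial.funext
  intro x
  rw [eval_res, hom_rtr, hz, eval_eval_Tx, eval_aeval, ← aeval_res, aeval_eq_eval]
  simp only [aeval_eq_eval]

include hz in
lemma coeff_Tx_mem {a : A} (ha : a ∈ F1 E lam) (e : PI b →₀ ℕ) :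
    ∃ a' ∈ F1 E lam, res E a' = coeff e (Tx z (res E a)) := by
  have hinf : Infinite K := IsAlgClosed.instInfinite
  by_cases he : e ∈ (Tx z (res E a)).support
  · have h1 := coeff_mem ((F1 E lam).map (res E).toLinearMap) (Tx z (res E a)).support
      (fun e => coeff e (Tx z (res E a))) (fun y => by
        refine ⟨rtr (pu E y) a, rtr_mem_F1 E ha _, ?_⟩
        change res E (rtr (pu E y) a) = _
        rw [res_rtr E hz, eval_eq]
        refine Finset.sum_congr rfl fun d _ => ?_
        rw [Finsupp.prod, smul_eq_C_mul, map_prod, mul_comm]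
        congr 1
        exact Finset.prod_congr rfl fun i _ => (map_pow _ _ _).symm) he
    obtain ⟨a', ha', h2⟩ := h1
    exact ⟨a', ha', h2⟩
  · exact ⟨0, (F1 E lam).zero_mem, by rw [map_zero, notMem_support_iff.1 he]⟩

variable {p r : ℕ} [Fact p.Prime] [CharP K p]

include hz hz1 in
/-- if the Frobenius-reduced coefficients vanish then the function is invariant under simple root groups -/
lemma inv_of_coeff {γ : idx} (hγ : γ ∈ b.support) (hm : P.coroot γ lam = ((p ^ r - 1 : ℕ) : ℤ)) {a : A}
    (ha : a ∈ F1 E lam)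
    (hco : ∀ e : PI b →₀ ℕ, (∀ c, e c < p ^ r) → e ≠ 0 → coeff e (Tx z (res E a)) = 0)
    (s : K) {u : Pt K A K} (hu : u ∈ Up E K) : (E.uu γ K s * u).hom a = u.hom a := by
  classical
  have hpos := RootPairing.Base.isPos_of_mem_support hγ
  obtain ⟨x, rfl⟩ := exists_pu E hu
  have hq : 0 < p ^ r := pow_pos (Fact.out : p.Prime).pos r
  set q := p ^ r with hqdef
  set T : Polynomial K := dpol E γ (pu E x) a with hT
  -- the conjugate
  let B := Polynomial K
  let xB : PI b → B := fun c => Polynomial.C (x c)
  have hxB : Pt.map (Algebra.ofId K B) (pu E x) = pu E xB := pu_nat E _ _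
  obtain ⟨η, hη⟩ := exists_pu E (B := B) (mul_mem (mul_mem (inv_mem (pu_mem E xB))
    (uu_mem_Up E hpos (Polynomial.X : B))) (pu_mem E xB))
  have hη0 : ∀ c, Polynomial.X ∣ η c := by
    intro c
    have h1 := congrArg (Pt.map (Polynomial.aeval (0 : K) : B →ₐ[K] K)) hη
    rw [Pt.map_mul, Pt.map_mul, Pt.map_inv, pu_nat, pu_nat, E.uu_nat, Polynomial.aeval_X, E.uu_zero,
      mul_one, inv_mul_cancel, ← pu_zero E] at h1
    have h2 := congrFun (pu_inj E h1) c
    rw [Polynomial.X_dvd_iff, Polynomial.coeff_zero_eq_aeval_zero]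
    exact h2.symm
  have hTη : T = aeval (Sum.elim xB η) (aeval z (res E a)) := by
    have h1 : E.uu γ B Polynomial.X * pu E xB = pu E (fun c => aeval (Sum.elim xB η) (z c)) := by
      rw [← hz, ← hη]; group; rfl
    rw [hT, dpol, hxB, h1, ← aeval_res, comp_aeval_apply]
  have hT0 : T.coeff 0 = (pu E x).hom a := by
    rw [Polynomial.coeff_zero_eq_eval_zero, hT, eval_dpol, E.uu_zero, one_mul]
  -- divisibility
  have hdvd : Polynomial.X ^ q ∣ T - Polynomial.C ((pu E x).hom a) := by
    have h1 : Polynomial.C ((pu E x).hom a) = aeval (Sum.elim xB (0 : PI b → B)) (aeval z (res E a)) := by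
      have h2 : pu E xB = pu E (fun c => aeval (Sum.elim xB (0 : PI b → B)) (z c)) := by
        rw [← hz, pu_zero, mul_one]
      have h3 : Polynomial.C ((pu E x).hom a) = (pu E xB).hom a := by
        rw [← hxB]; rfl
      rw [h3, h2, ← aeval_res, comp_aeval_apply]
    rw [hTη, h1]
    set Q := aeval z (res E a) with hQ
    rw [aeval_def, aeval_def, eval₂_eq', eval₂_eq', ← Finset.sum_sub_distrib]
    refine Finset.dvd_sum fun m hm => ?_
    rw [← mul_sub]
    refine Dvd.dvd.mul_left ?_ _
    obtain ⟨m₁, e, rfl⟩ := exists_sumElim m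
    rw [Fintype.prod_sum_type, Fintype.prod_sum_type]
    simp only [Sum.elim_inl, Sum.elim_inr, Finsupp.sumElim_inl, Finsupp.sumElim_inr, Pi.zero_apply]
    rw [← mul_sub]
    refine Dvd.dvd.mul_left ?_ _
    by_cases he : e = 0
    · subst he
      simp
    · have h2 : ∃ c, q ≤ e c := by
        by_contra hcon
        push Not at hcon
        have h3 := congrArg (coeff m₁) (hco e hcon he)
        rw [coeff_Tx, coeff_zero] at h3
        exact mem_support_iff.1 hm h3
      obtain ⟨c, hc⟩ := h2
      have h3 : ∏ c, (0 : B) ^ e c = 0 :=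
        Finset.prod_eq_zero (Finset.mem_univ c) (zero_pow (by omega))
      rw [h3, sub_zero]
      refine Dvd.dvd.trans ?_ (Finset.dvd_prod_of_mem _ (Finset.mem_univ c))
      exact (pow_dvd_pow _ hc).trans (pow_dvd_pow_of_dvd (hη0 c) _)
  -- degree
  have hdeg := (degree_lemma E hγ hm ha (pu E x)).1
  have hTC : T = Polynomial.C ((pu E x).hom a) := by
    rw [← sub_eq_zero]
    ext k
    rw [Polynomial.coeff_zero]
    by_cases hk : k < q
    · exact Polynomial.X_pow_dvd_iff.1 hdvd k hk
    · rw [Polynomial.coeff_sub, Polynomial.coeff_C_of_ne_zero (by omega), sub_zero]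
      exact hdeg k (by omega)
  rw [← eval_dpol, ← hT, hTC, Polynomial.eval_C]

end key

variable {p r : ℕ} [Fact p.Prime] [CharP K p]

/-- **The key vanishing.** -/
theorem eq_zero_of_mem_Jq (hlam : ∀ γ ∈ b.support, P.coroot γ lam = ((p ^ r - 1 : ℕ) : ℤ)) {Λ : A}
    (hΛ : Λ ∈ F1 E lam) (hΛ1 : ∀ u ∈ Up E K, u.hom Λ = 1) {a : A} (ha : a ∈ F1 E lam)
    (hJ : res E a ∈ Jq (PI b) K (p ^ r)) : a = 0 := by
  classical
  have hinf : Infinite K := IsAlgClosed.instInfinite
  have hq : 0 < p ^ r := pow_pos (Fact.out : p.Prime).pos r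
  obtain ⟨z, hz, hz1, hz2⟩ := exists_mulz E
  obtain ⟨μ, hμ⟩ := exists_dominant b
  set w : PI b → ℕ := wt b μ with hw
  have hzw : ∀ c, IsWeightedHomogeneous (Sum.elim w w) (z c) (w c) := isWH_mulz E hμ hz
  suffices H : ∀ n : ℕ, ∀ a ∈ F1 E lam, res E a ∈ Jq (PI b) K (p ^ r) →
      (∀ m ∈ (res E a).support, Finsupp.weight w m ≤ n) → a = 0 by
    refine H ((res E a).support.sup fun m => Finsupp.weight w m) a ha hJ fun m hm => ?_
    exact Finset.le_sup (f := fun m => Finsupp.weight w m) hm
  intro n
  induction n using Nat.strong_induction_on with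
  | _ n ih =>
    intro a ha hJ hn
    have hco : ∀ e : PI b →₀ ℕ, (∀ c, e c < p ^ r) → e ≠ 0 → coeff e (Tx z (res E a)) = 0 := by
      intro e he he0
      obtain ⟨a', ha', hres⟩ := coeff_Tx_mem E hz ha e
      rw [← hres]
      by_contra hne
      have hwt : ∀ m ∈ (res E a').support, Finsupp.weight w m + 1 ≤ n := by
        intro m hm
        rw [hres, mem_support_iff, coeff_Tx] at hm
        obtain ⟨m₀, hm₀, h1⟩ := exists_weight_of_mem_support hzw (mem_support_iff.2 hm)
        have h2 := hn m₀ hm₀
        rw [← h1] at h2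
        have h3 : Finsupp.weight (Sum.elim w w) (Finsupp.sumElim m e) =
            Finsupp.weight w m + Finsupp.weight w e := by
          rw [Finsupp.weight_eq_sum, Finsupp.weight_eq_sum, Finsupp.weight_eq_sum, Fintype.sum_sum_type]
          simp
        have h4 : 1 ≤ Finsupp.weight w e := by
          obtain ⟨c, hc⟩ : ∃ c, e c ≠ 0 := by
            by_contra! h; exact he0 (Finsupp.ext h)
          rw [Finsupp.weight_eq_sum]
          have h5 := Finset.single_le_sum (f := fun c => e c • w c) (fun c _ => Nat.zero_le _)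
            (Finset.mem_univ c)
          have h6 := wt_pos hμ c
          have h7 : 1 ≤ e c • w c := by
            rw [smul_eq_mul]
            exact Nat.mul_pos (Nat.pos_of_ne_zero hc) h6
          exact h7.trans h5
        omega
      have hsupp : (res E a').support.Nonempty := by
        rw [Finset.nonempty_iff_ne_empty]
        intro h0
        exact hne (support_eq_empty.1 h0)
      obtain ⟨m, hm⟩ := hsupp
      have hn1 : 1 ≤ n := by have := hwt m hm; omega
      have h0 := ih (n - 1) (by omega) a' ha' (by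
        rw [mem_Jq_iff]
        intro m hm
        by_contra hcon
        push Not at hcon
        rw [hres, mem_support_iff, coeff_Tx] at hm
        apply hm
        refine coeff_eq_zero_of_mem_Jq (map_mem_Jq (p := p) (r := r) (aeval z :
          MvPolynomial (PI b) K →ₐ[K] MvPolynomial (PI b ⊕ PI b) K) (fun i => by
            rw [aeval_X]; exact constantCoeff_z hz1 i) hJ) ?_
        intro c
        rcases c with c | c
        · simpa using hcon c
        · simpa using he c) (fun m hm => by have := hwt m hm; omega)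
      rw [h0, map_zero] at hne
      exact hne rfl
    have hinv : ∀ γ ∈ b.support, ∀ (s : K), ∀ u ∈ Up E K, (E.uu γ K s * u).hom a = u.hom a :=
      fun γ hγ s u hu => inv_of_coeff E hz hz1 hγ (hlam γ hγ) ha hco s hu
    have hprop := eq_smul_of_inv E hΛ hΛ1 ha hinv
    -- the constant vanishes
    have h1 : res E a = C ((1 : Pt K A K).hom a) := by
      apply MvPolynomial.funext
      intro x
      rw [eval_res, hprop, hΛ1 _ (pu_mem E x), mul_one, eval_C]
    have h2 : (1 : Pt K A K).hom a = 0 := by
      have h3 := coeff_eq_zero_of_mem_Jq hJ (e := 0) (fun c => by simpa using hq)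
      rw [h1] at h3
      simpa using h3
    apply eq_of_hom E
    intro g
    rw [hprop, h2, zero_mul, map_zero]

/-- **The dimension bound.** -/
theorem finrank_F1_le (hlam : ∀ γ ∈ b.support, P.coroot γ lam = ((p ^ r - 1 : ℕ) : ℤ)) {Λ : A}
    (hΛ : Λ ∈ F1 E lam) (hΛ1 : ∀ u ∈ Up E K, u.hom Λ = 1) :
    Module.Finite K (F1 E lam) ∧
      Module.finrank K (F1 E lam) ≤ (p ^ r) ^ Fintype.card (PI b) := by
  classical
  let θ : F1 E lam →ₗ[K] ((PI b → Fin (p ^ r)) → K) :=
    { toFun := fun a e => coeff (expo fun c => (e c : ℕ)) (res E (a : A))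
      map_add' := fun a a' => by funext e; simp
      map_smul' := fun c a => by funext e; simp }
  have hθ : Function.Injective θ := by
    rw [← LinearMap.ker_eq_bot, LinearMap.ker_eq_bot']
    intro a ha
    apply Subtype.ext
    apply eq_zero_of_mem_Jq E hlam hΛ hΛ1 a.2
    rw [mem_Jq_iff]
    intro e he
    by_contra hcon
    push Not at hcon
    apply mem_support_iff.1 he
    have h1 := congrFun ha (fun c => ⟨e c, hcon c⟩)
    change coeff (expo fun c => e c) (res E (a : A)) = 0 at h1
    have h2 : (expo fun c => e c) = e := by ext c; rfl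
    rwa [h2] at h1
  have hfin : Module.Finite K (F1 E lam) := Module.Finite.of_injective θ hθ
  refine ⟨hfin, ?_⟩
  have h1 := LinearMap.finrank_le_finrank_of_injective hθ
  rw [Module.finrank_fintype_fun_eq_card, Fintype.card_fun, Fintype.card_fin] at h1
  exact h1

end K702.Hab
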