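import Groth.Agent.AGF.K702.PinCover
import Groth.Agent.RedSub.H638.PinFull
import Groth.Agent.S2959
import Groth.Agent.Sga3B.RG.BrHc
import Groth.Agent.Sga3B.AlgBc2

/-!
# Geometric reductivity of connected reductive groups in positive characteristic
-/

set_option autoImplicit false
set_option linter.unusedSectionVars false
universe u

open CategoryTheory MonoidalCategory CartesianMonoidalCategory MonObj GrpObj AlgebraicGeometry Limits
open Groth.Agent.Sga3B Groth.Agent.Sga3B.Cell
open Groth.Agent.Books.AffBridge Groth.Agent.Books.AffBridge2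
open Groth.Agent.RedSub.H368.HopfPts
open K497.Rat (GeomRed)
open Groth.Agent.Sga3B.PinModelOf Groth.Agent.Sga3B.PinBuild

namespace K702.Hab

section chart

variable {K : Type u} [Field K] (O : Type u) [CommRing O] [HopfAlgebra K O]

/-- the two models of affine test objects -/
noncomputable def isoT (K : Type u) [Field K] (B : Type u) [CommRing B] [Algebra K B] :
    SpecOver K B ≅ PinMod.tB (𝟙 (Spec (CommRingCat.of K))) B :=
  Over.isoMk (Iso.refl _) (by
    change 𝟙 _ ≫ Spec.map _ ≫ 𝟙 _ = _
    rw [Category.id_comp, Category.comp_id]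
    rfl)

/-- points over the two models -/
noncomputable def preT (B : Type u) [CommRing B] [Algebra K B] (G : Over (Spec (CommRingCat.of K))) [GrpObj G] :
    (SpecOver K B ⟶ G) ≃* (PinMod.tB (𝟙 (Spec (CommRingCat.of K))) B ⟶ G) where
  toFun g := (isoT K B).inv ≫ g
  invFun g := (isoT K B).hom ≫ g
  left_inv _ := Iso.hom_inv_id_assoc _ _
  right_inv _ := Iso.inv_hom_id_assoc _ _
  map_mul' _ _ := MonObj.comp_mul _ _ _

/-- the chart of `SpecOver K O` with ring `O` -/
noncomputable def chartO : Chart (SpecOver K O) (𝟙 (Spec (CommRingCat.of K))) :=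
  letI := ptGrpOfHopf K O
  { A := O
    pts := fun B _ _ => (ptConv (compat_ptGrpOfHopf K O) B).trans
      ((RG.BrPts.rptEquiv K O B).trans (preT B (SpecOver K O)))
    pts_nat := fun {B C} _ _ _ _ φ g => by
      ext1
      change Spec.map _ ≫ 𝟙 _ ≫ Spec.map _ = 𝟙 _ ≫ Spec.map _
      rw [Category.id_comp, Category.id_comp, ← Spec.map_comp]
      rfl
    p := 𝟙 _
    pts_left := fun B _ _ g => by
      change 𝟙 _ ≫ Spec.map _ = Spec.map _ ≫ 𝟙 _
      rw [Category.id_comp, Category.comp_id]
      rfl
    isPullback := by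
      refine @IsPullback.of_horiz_isIso _ _ _ _ _ _ _ _ _ _ (IsIso.id (Spec (CommRingCat.of O)))
        (IsIso.id (Spec (CommRingCat.of K))) ⟨?_⟩
      rw [Category.comp_id]
      exact Category.id_comp _ }

end chart

section main

variable {K : Type u} [Field K] [IsAlgClosed K]

/-- connected reductive groups over an algebraically closed field have pinnings -/
theorem nonempty_pinning {G : Over (Spec (CommRingCat.of K))} [GrpObj G] (hG : Red.IsReductiveOver K G) :
    Nonempty (Red.Pinning G) := by
  have h1 := hG.1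
  have h2 := hG.2.1
  have hred : Red.IsReductive G := AlgBc.isReductive_iff.2 hG
  obtain ⟨T, _, i, hT, r, hr⟩ := RG.BrHc.exists_isMaximalTorus G
  have := Groth.Agent.S2959.preconnectedSpace K
  obtain ⟨D, -, -, h3⟩ := Groth.Agent.Sga3B.RootFinal136.exists_splitRed hred i hT hr
  obtain ⟨b⟩ := BaseZ.nonempty_base D.P
  exact ⟨{ D with base := b }⟩

/-- a pinned cell on a Hopf algebra with reductive spectrum -/
theorem exists_pinCell_of_reductive {O : Type u} [CommRing O] [HopfAlgebra K O]
    (hG : Red.IsReductiveOver K (SpecOver K O)) :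
    letI := ptGrpOfHopf K O
    ∃ (idx M : Type) (_ : Fintype idx) (_ : AddCommGroup M) (_ : Module.Free ℤ M) (_ : Module.Finite ℤ M)
      (P : RootPairing idx ℤ M (Module.Dual ℤ M)) (b : P.Base), Nonempty (PinCell P b K O) := by
  let _ := ptGrpOfHopf K O
  obtain ⟨D⟩ := nonempty_pinning hG
  let c := chartO (K := K) O
  have : Smooth (SpecOver K O).hom := D.reductive.2.1
  have : Algebra.Smooth K c.A := ChartFib.smooth_of_isPullback c.isPullback
  obtain ⟨E, -⟩ := Groth.Agent.RedSub.H638.PinFull.exists_pinCell_full (D := c.datum D.toSplitRed)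
    (fun K' _ _ => ChartFib.isDomain D.reductive c.isPullback K') (good D.toSplitRed c) D.P
    (fun a => rfl) D.pairing_eq D.base (fun a _ => by
      obtain ⟨n, hn⟩ := exists_acts D.toSplitRed c a
      exact ⟨n, fun t => conj_of_acts (D := c.datum D.toSplitRed) D.P (fun a => rfl)
        D.pairing_eq hn t⟩)
  exact ⟨D.idx, D.M, inferInstance, inferInstance, inferInstance, inferInstance, D.P, D.base, ⟨E⟩⟩

/-- **Haboush's theorem for connected reductive groups in positive characteristic.** -/
theorem geomRed_of_reductive {O : Type u} [CommRing O] [HopfAlgebra K O]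
    (hG : Red.IsReductiveOver K (SpecOver K O)) {p : ℕ} [Fact p.Prime] [CharP K p] : GeomRed K O := by
  let _ := ptGrpOfHopf K O
  obtain ⟨idx, M, _, _, _, _, P, b, ⟨E⟩⟩ := exists_pinCell_of_reductive hG
  exact geomRed_of_pin' (p := p) (compat_ptGrpOfHopf K O) E

end main

end K702.Hab
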