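import Groth.Agent.AGF.K702.Longest
import Groth.Agent.Red.K213.TwMod

/-!
# The root datum of the cover on which `ρ` is a character

`ML b = 2 M + ℤ 2ρ ⊆ M` contains `M` by `m ↦ 2 m`; `covP` is the root datum with roots `2 a` and coroots
`a^∨ / 2` on `ML b`; `covTw` the morphism of root data.
-/

set_option autoImplicit false
set_option linter.unusedSectionVars false
universe u

namespace K702.Hab

open Groth.Agent.Sga3B Groth.Agent.Sga3B.Cell Groth.Agent.Sga3B.Word Groth.Agent.Sga3B.MT
open Groth.Agent.RedSub.H638.WeylBase Groth.Agent.RedSub.H638.WeylCover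
open Groth.Agent.RedSub.H662 Panel PosPt Homog Step

variable {idx M : Type} [Fintype idx] [AddCommGroup M] [Module.Free ℤ M]
    [Module.Finite ℤ M] {P : RootPairing idx ℤ M (Module.Dual ℤ M)} {b : P.Base}

section lattice

variable (b) in
/-- the lattice -/
noncomputable def ML : Submodule ℤ M := LinearMap.range ((2 : ℤ) • (LinearMap.id : M →ₗ[ℤ] M)) ⊔
  Submodule.span ℤ {tworho b}

variable (b) in
lemma two_smul_mem (m : M) : (2 : ℤ) • m ∈ ML b :=
  Submodule.mem_sup_left ⟨m, rfl⟩

variable (b) in
lemma tworho_mem : tworho b ∈ ML b :=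
  Submodule.mem_sup_right (Submodule.mem_span_singleton_self _)

variable (b) in
/-- the inclusion of the character lattice -/
noncomputable def covM : M →ₗ[ℤ] ML b :=
  LinearMap.codRestrict (ML b) ((2 : ℤ) • (LinearMap.id : M →ₗ[ℤ] M)) (two_smul_mem b)

lemma covM_coe (m : M) : ((covM b m : ML b) : M) = (2 : ℤ) • m := rfl

lemma covM_injective : Function.Injective (covM b) := by
  intro m m' h
  have h1 : (2 : ℤ) • m = (2 : ℤ) • m' := congrArg Subtype.val h
  rw [← sub_eq_zero, ← smul_sub] at h1
  exact sub_eq_zero.1 ((smul_eq_zero.1 h1).resolve_left two_ne_zero)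

/-- coroots are even on the lattice -/
lemma even_coroot (h2 : ∀ γ ∈ b.support, P.coroot γ (tworho b) = 2) (a : idx) (m : ML b) :
    (2 : ℤ) ∣ P.coroot a m := by
  have h1 : ∀ f ∈ AddSubmonoid.closure (P.coroot '' b.support), (2 : ℤ) ∣ f (tworho b) := by
    intro f hf
    induction hf using AddSubmonoid.closure_induction with
    | mem x hx =>
      obtain ⟨γ, hγ, rfl⟩ := hx
      rw [h2 γ hγ]
    | zero => simp
    | add x y _ _ hx hy =>
      rw [LinearMap.add_apply]
      exact dvd_add hx hy
  have h3 : (2 : ℤ) ∣ P.coroot a (tworho b) := by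
    rcases b.coroot_mem_or_neg_mem a with h | h
    · exact h1 _ h
    · have := h1 _ h
      rwa [LinearMap.neg_apply, dvd_neg] at this
  have h4 : ML b ≤ (Submodule.span ℤ {(2 : ℤ)}).comap (P.coroot a) := by
    unfold ML
    refine sup_le ?_ ?_
    · rintro _ ⟨m', rfl⟩
      rw [Submodule.mem_comap, Submodule.mem_span_singleton]
      refine ⟨P.coroot a m', ?_⟩
      change P.coroot a m' * 2 = P.coroot a ((2 : ℤ) • m')
      rw [map_smul, smul_eq_mul, mul_comm]
    · rw [Submodule.span_le, Set.singleton_subset_iff]
      obtain ⟨c, hc⟩ := h3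
      change tworho b ∈ (Submodule.span ℤ {(2 : ℤ)}).comap (P.coroot a)
      rw [Submodule.mem_comap, Submodule.mem_span_singleton]
      exact ⟨c, by rw [hc, smul_eq_mul, mul_comm]⟩
  have h5 := h4 m.2
  rw [Submodule.mem_comap, Submodule.mem_span_singleton] at h5
  obtain ⟨c, hc⟩ := h5
  exact ⟨c, by rw [← hc, smul_eq_mul, mul_comm]⟩

/-- the coroots of the cover -/
noncomputable def covCor (h2 : ∀ γ ∈ b.support, P.coroot γ (tworho b) = 2) (a : idx) :
    Module.Dual ℤ (ML b) where
  toFun m := P.coroot a (m : M) / 2
  map_add' m m' := by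
    obtain ⟨c, hc⟩ := even_coroot h2 a m
    obtain ⟨c', hc'⟩ := even_coroot h2 a m'
    rw [Submodule.coe_add, map_add, hc, hc', ← mul_add, Int.mul_ediv_cancel_left _ two_ne_zero,
      Int.mul_ediv_cancel_left _ two_ne_zero, Int.mul_ediv_cancel_left _ two_ne_zero]
  map_smul' n m := by
    obtain ⟨c, hc⟩ := even_coroot h2 a m
    rw [Submodule.coe_smul, map_smul, hc, smul_eq_mul, mul_left_comm,
      Int.mul_ediv_cancel_left _ two_ne_zero, Int.mul_ediv_cancel_left _ two_ne_zero]
    rfl

lemma two_mul_covCor (h2 : ∀ γ ∈ b.support, P.coroot γ (tworho b) = 2) (a : idx) (m : ML b) :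
    2 * covCor h2 a m = P.coroot a (m : M) := Int.mul_ediv_cancel' (even_coroot h2 a m)

lemma covCor_covM (h2 : ∀ γ ∈ b.support, P.coroot γ (tworho b) = 2) (a : idx) (m : M) :
    covCor h2 a (covM b m) = P.coroot a m := by
  have h1 := two_mul_covCor h2 a (covM b m)
  rw [covM_coe, map_smul, smul_eq_mul] at h1
  exact mul_left_cancel₀ two_ne_zero h1

/-- functionals on the lattice are determined on `M` -/
lemma dual_ext {f g : Module.Dual ℤ (ML b)} (h : ∀ m, f (covM b m) = g (covM b m)) : f = g := by
  ext m
  have h1 : covM b (m : M) = (2 : ℤ) • m := Subtype.ext rfl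
  have h2 := h (m : M)
  rw [h1, map_smul, map_smul, smul_eq_mul, smul_eq_mul] at h2
  exact mul_left_cancel₀ two_ne_zero h2

end lattice

section datum

variable (hpe : P.toLinearMap = Module.Dual.eval ℤ M) (h2 : ∀ γ ∈ b.support, P.coroot γ (tworho b) = 2)

include hpe in
lemma refl_root (i j : idx) : P.root j - (P.coroot i (P.root j)) • P.root i = P.root (P.reflectionPerm i j) := by
  have := P.reflectionPerm_root i j
  rw [hpe] at this
  exact this

include hpe in
lemma refl_coroot (i j : idx) : P.coroot j - (P.coroot j (P.root i)) • P.coroot i =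
    P.coroot (P.reflectionPerm i j) := by
  have := P.reflectionPerm_coroot i j
  rw [hpe] at this
  exact this

/-- **The root datum of the cover.** -/
noncomputable def covP : RootPairing idx ℤ (ML b) (Module.Dual ℤ (ML b)) where
  toLinearMap := Module.Dual.eval ℤ (ML b)
  isPerfPair_toLinearMap := inferInstance
  root := ⟨fun a => covM b (P.root a), covM_injective.comp P.root.injective⟩
  coroot := ⟨covCor h2, fun a a' h => by
    apply P.coroot.injective
    ext m
    rw [← covCor_covM h2, h, covCor_covM]⟩
  root_coroot_two a := by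
    change covCor h2 a (covM b (P.root a)) = 2
    rw [covCor_covM]
    have := P.root_coroot_two a
    rw [hpe] at this
    exact this
  reflectionPerm := P.reflectionPerm
  reflectionPerm_root i j := by
    change covM b (P.root j) - (covCor h2 i (covM b (P.root j))) • covM b (P.root i) = _
    rw [covCor_covM, ← map_smul, ← map_sub, refl_root hpe]
    rfl
  reflectionPerm_coroot i j := by
    change covCor h2 j - (covCor h2 j (covM b (P.root i))) • covCor h2 i = covCor h2 (P.reflectionPerm i j)
    apply dual_ext
    intro m
    rw [covCor_covM, covCor_covM, ← refl_coroot hpe, LinearMap.sub_apply, LinearMap.smul_apply,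
      LinearMap.sub_apply, LinearMap.smul_apply, covCor_covM, covCor_covM]

lemma covP_root (a : idx) : (covP hpe h2).root a = covM b (P.root a) := rfl
lemma covP_coroot (a : idx) : (covP hpe h2).coroot a = covCor h2 a := rfl

/-- the restriction to `M` of functionals -/
noncomputable def resD : Module.Dual ℤ (ML b) →ₗ[ℤ] Module.Dual ℤ M := (covM b).dualMap

lemma resD_injective : Function.Injective (resD (b := b)) := fun _ _ h =>
  dual_ext fun m => LinearMap.congr_fun h m

lemma resD_covCor (a : idx) : resD (covCor h2 a) = P.coroot a := by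
  ext m
  exact covCor_covM h2 a m

/-- **The base of the root datum of the cover.** -/
noncomputable def covB : (covP hpe h2).Base where
  support := b.support
  linearIndepOn_root := by
    have h := b.linearIndepOn_root
    exact h.map_injOn (covM b) covM_injective.injOn
  linearIndepOn_coroot := by
    have h := b.linearIndepOn_coroot
    refine LinearIndependent.of_comp resD ?_
    have h3 : (⇑resD ∘ fun x : b.support => (covP hpe h2).coroot x) = fun x : b.support => P.coroot x := by
      funext x
      exact resD_covCor h2 x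
    exact h3 ▸ h
  root_mem_or_neg_mem a := by
    have key : ∀ x ∈ AddSubmonoid.closure (P.root '' b.support),
        covM b x ∈ AddSubmonoid.closure ((covP hpe h2).root '' b.support) := by
      intro x hx
      induction hx using AddSubmonoid.closure_induction with
      | mem x hx =>
        obtain ⟨γ, hγ, rfl⟩ := hx
        exact AddSubmonoid.subset_closure ⟨γ, hγ, rfl⟩
      | zero => rw [map_zero]; exact zero_mem _
      | add x y _ _ hx hy => rw [map_add]; exact add_mem hx hy
    rcases b.root_mem_or_neg_mem a with h | h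
    · exact Or.inl (key _ h)
    · right
      have := key _ h
      rwa [map_neg] at this
  coroot_mem_or_neg_mem a := by
    have key : ∀ x ∈ AddSubmonoid.closure (P.coroot '' b.support),
        ∃ y ∈ AddSubmonoid.closure ((covP hpe h2).coroot '' b.support), resD y = x := by
      intro x hx
      induction hx using AddSubmonoid.closure_induction with
      | mem x hx =>
        obtain ⟨γ, hγ, rfl⟩ := hx
        exact ⟨(covP hpe h2).coroot γ, AddSubmonoid.subset_closure ⟨γ, hγ, rfl⟩, resD_covCor h2 γ⟩
      | zero => exact ⟨0, zero_mem _, map_zero _⟩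
      | add x y _ _ hx hy =>
        obtain ⟨x', hx1, hx2⟩ := hx
        obtain ⟨y', hy1, hy2⟩ := hy
        exact ⟨x' + y', add_mem hx1 hy1, by rw [map_add, hx2, hy2]⟩
    rcases b.coroot_mem_or_neg_mem a with h | h
    · left
      obtain ⟨y, hy, hy2⟩ := key _ h
      have : y = (covP hpe h2).coroot a := resD_injective (by rw [hy2]; exact (resD_covCor h2 a).symm)
      rwa [← this]
    · right
      obtain ⟨y, hy, hy2⟩ := key _ h
      have : y = -(covP hpe h2).coroot a := resD_injective (by
        rw [hy2, map_neg]; exact congrArg Neg.neg (resD_covCor h2 a).symm)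
      rwa [← this]

lemma covB_height (a : idx) : (covB hpe h2).height a = b.height a := by
  obtain ⟨f, hf0, hf1, hf2⟩ := b.exists_root_eq_sum_int a
  have h3 : (covP hpe h2).root a = ∑ j ∈ (covB hpe h2).support, f j • (covP hpe h2).root j := by
    rw [covP_root, hf2, map_sum]
    refine Finset.sum_congr rfl fun j _ => ?_
    rw [map_zsmul]
    rfl
  rw [RootPairing.Base.height_eq_sum hf2, RootPairing.Base.height_eq_sum h3]
  rfl

lemma covB_isPos (a : idx) : (covB hpe h2).IsPos a ↔ b.IsPos a := by
  rw [RootPairing.Base.isPos_iff, RootPairing.Base.isPos_iff, covB_height]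

variable (b) in
/-- `ρ` as an element of the lattice -/
noncomputable def covρ : ML b := ⟨tworho b, tworho_mem b⟩

open Classical in
lemma covρ_add : covρ b + covρ b = tworho (covB hpe h2) := by
  have h3 : covρ b + covρ b = covM b (tworho b) := by
    apply Subtype.ext
    change tworho b + tworho b = (2 : ℤ) • tworho b
    rw [two_smul]
  rw [h3]
  unfold tworho
  rw [map_sum]
  let e : PI b ≃ PI (covB hpe h2) := Equiv.subtypeEquivRight fun a => (covB_isPos hpe h2 a).symm
  refine Fintype.sum_equiv e _ _ fun c => rfl

/-- the morphism of root data -/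
noncomputable def covTw : K213.PMor.Tw (covP hpe h2) (covB hpe h2) P b where
  p := 1
  p_pos := one_pos
  hM := covM b
  d := Equiv.refl idx
  q := fun _ => 1
  hq := fun _ => ⟨0, rfl⟩
  hroot := fun a => by
    rw [Nat.cast_one, one_smul]
    rfl
  hcoroot := fun a => by
    rw [Nat.cast_one, one_smul]
    exact resD_covCor h2 a
  hΔ := fun a => Iff.rfl
  pe := rfl
  pe' := hpe

end datum

end K702.Hab
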