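import Groth.Agent.AGF.K497.GeomRed

/-!
# The determinant trick

`Γ` a group acting on `V`, `N : Γ × Γ → V` with `k N(gk, k⁻¹h) = N(g, h)` whose coordinates in each variable lie in
spaces of functions of dimension at most `d`, with `φ N(g, h)` of rank `d`: then the determinant of a
`d × d` matrix of values of `N` is an invariant in `Sym^d V`.
-/

set_option autoImplicit false

universe u

open Groth.Agent.Sga3B.RG Polynomial K497.Rat

namespace K702.Hab

section rep

variable {Γ K ι : Type*} [Field K] [Fintype ι] [DecidableEq ι]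

/-- In a space of functions of dimension at most `card ι` containing functions `c m` with
`det (c m (g l)) ≠ 0`, evaluation at any point is a combination of the evaluations at the `g l`. -/
lemma exists_row (F : Submodule K (Γ → K)) [FiniteDimensional K F]
    (hF : Module.finrank K F ≤ Fintype.card ι) (g : ι → Γ) (c : ι → Γ → K) (hc : ∀ m, c m ∈ F)
    (hdet : (Matrix.of fun l m => c m (g l)).det ≠ 0) (x : Γ) :
    ∃ P : ι → K, ∀ a ∈ F, a x = ∑ l, P l * a (g l) := by
  classical
  let ev : F →ₗ[K] (ι → K) :=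
    { toFun := fun a l => (a : Γ → K) (g l)
      map_add' := fun a b => rfl
      map_smul' := fun r a => rfl }
  have hsurj : Function.Surjective ev := by
    intro v
    set C : Matrix ι ι K := Matrix.of fun l m => c m (g l) with hC
    have hu : IsUnit C.det := isUnit_iff_ne_zero.2 hdet
    refine ⟨⟨∑ m, (C⁻¹.mulVec v) m • c m, Submodule.sum_mem _ fun m _ => F.smul_mem _ (hc m)⟩, ?_⟩
    funext l
    change (∑ m, (C⁻¹.mulVec v) m • c m) (g l) = v l
    rw [Finset.sum_apply]
    have h1 : (C.mulVec (C⁻¹.mulVec v)) l = v l := by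
      rw [Matrix.mulVec_mulVec, Matrix.mul_nonsing_inv _ hu, Matrix.one_mulVec]
    rw [← h1]
    simp only [Matrix.mulVec, dotProduct, hC, Matrix.of_apply, Pi.smul_apply, smul_eq_mul]
    exact Finset.sum_congr rfl fun m _ => mul_comm _ _
  have hle : Fintype.card ι ≤ Module.finrank K F := by
    have := LinearMap.finrank_le_finrank_of_surjective hsurj
    rwa [Module.finrank_fintype_fun_eq_card] at this
  have heq : Module.finrank K F = Module.finrank K (ι → K) := by
    rw [Module.finrank_fintype_fun_eq_card]; exact le_antisymm hF hle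
  have hinj : Function.Injective ev :=
    (LinearMap.injective_iff_surjective_of_finrank_eq_finrank heq).2 hsurj
  let e : F ≃ₗ[K] (ι → K) := LinearEquiv.ofBijective ev ⟨hinj, hsurj⟩
  let θ : (ι → K) →ₗ[K] K :=
    { toFun := fun v => ((e.symm v : F) : Γ → K) x
      map_add' := fun v w => by rw [map_add]; rfl
      map_smul' := fun r v => by rw [map_smul]; rfl }
  refine ⟨fun l => θ (Pi.single l 1), fun a ha => ?_⟩
  have h1 : θ (e ⟨a, ha⟩) = a x := by
    change ((e.symm (e ⟨a, ha⟩) : F) : Γ → K) x = a x
    rw [LinearEquiv.symm_apply_apply]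
  have h2 : e ⟨a, ha⟩ = ∑ l, a (g l) • (Pi.single l 1 : ι → K) := by
    funext l
    rw [Finset.sum_apply]
    simp only [Pi.smul_apply, smul_eq_mul]
    rw [Finset.sum_eq_single l]
    · rw [Pi.single_eq_same, mul_one]; rfl
    · intro m _ hm
      rw [Pi.single_eq_of_ne (Ne.symm hm), mul_zero]
    · intro h; exact absurd (Finset.mem_univ _) h
  rw [← h1, h2, map_sum]
  refine Finset.sum_congr rfl fun l _ => ?_
  rw [map_smul, smul_eq_mul, mul_comm]

end rep

variable {K : Type u} [Field K] {A : Type u} [CommRing A] [HopfAlgebra K A]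
variable {V : Type u} [AddCommGroup V] [Module K V] [FiniteDimensional K V]
variable {ι : Type} [Fintype ι] [DecidableEq ι]

/-- vectors are determined by their coordinates: expansions -/
lemma eq_sum_of_dual {V : Type*} [AddCommGroup V] [Module K V] {ι : Type*} [Fintype ι] {v : V}
    {P : ι → K} {w : ι → V} (h : ∀ f : Module.Dual K V, f v = ∑ l, P l * f (w l)) :
    v = ∑ l, P l • w l := by
  rw [← sub_eq_zero, ← Module.forall_dual_apply_eq_zero_iff K]
  intro f
  rw [map_sub, h, map_sum, sub_eq_zero]
  exact Finset.sum_congr rfl fun l _ => by rw [map_smul, smul_eq_mul]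

/-- **The determinant trick.** -/
theorem det_trick (ρ : Representation K (Pt K A) V) (φ : V →ₗ[K] K) (hφ : ∀ g v, φ (ρ g v) = φ v)
    (F E : Submodule K (Pt K A → K)) [FiniteDimensional K F] [FiniteDimensional K E]
    (hF : Module.finrank K F ≤ Fintype.card ι) (hE : Module.finrank K E ≤ Fintype.card ι)
    (N : Pt K A → Pt K A → V)
    (hN1 : ∀ (f : Module.Dual K V) (h : Pt K A), (fun g => f (N g h)) ∈ F)
    (hN2 : ∀ (f : Module.Dual K V) (g : Pt K A), (fun h => f (N g h)) ∈ E)
    (hN : ∀ k g h, ρ k (N (g * k) (k⁻¹ * h)) = N g h)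
    (g h : ι → Pt K A) (hdet : (Matrix.of fun l m => φ (N (g l) (h m))).det ≠ 0) :
    ∃ F : SymmetricAlgebra K V, (∀ k, symAct ρ k F = F) ∧ symTo φ F = X ^ (Fintype.card ι) := by
  classical
  set S := SymmetricAlgebra K V
  let X₀ : Matrix ι ι S := Matrix.of fun l m => SymmetricAlgebra.ι K V (N (g l) (h m))
  set C : Matrix ι ι K := Matrix.of fun l m => φ (N (g l) (h m)) with hC
  have hX : symTo φ X₀.det = Polynomial.C C.det * X ^ (Fintype.card ι) := by
    rw [AlgHom.map_det]
    have h1 : (symTo φ).mapMatrix X₀ = (X : K[X]) • C.map (Polynomial.C : K →+* K[X]) := by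
      refine Matrix.ext fun l m => ?_
      change symTo φ (SymmetricAlgebra.ι K V (N (g l) (h m))) = X * Polynomial.C (φ (N (g l) (h m)))
      rw [symTo_ι, Polynomial.smul_eq_C_mul, mul_comm]
    rw [h1, Matrix.det_smul, mul_comm]
    congr 1
    rw [← RingHom.mapMatrix_apply, ← RingHom.map_det]
  have key : ∀ k, symAct ρ k X₀.det = X₀.det := by
    intro k
    -- rows
    have hP : ∀ l, ∃ P : ι → K, ∀ a ∈ F, a (g l * k) = ∑ l', P l' * a (g l') := fun l =>
      exists_row F hF g (fun m x => φ (N x (h m))) (fun m => hN1 φ (h m)) hdet (g l * k)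
    choose P hP using hP
    have hQ : ∀ m, ∃ Q : ι → K, ∀ a ∈ E, a (k⁻¹ * h m) = ∑ m', Q m' * a (h m') := fun m =>
      exists_row E hE h (fun l x => φ (N (g l) x)) (fun l => hN2 φ (g l)) (by
        rw [← Matrix.det_transpose]
        exact hdet) (k⁻¹ * h m)
    choose Q hQ using hQ
    have hNN : ∀ l m, N (g l * k) (k⁻¹ * h m) = ∑ l', P l l' • ∑ m', Q m m' • N (g l') (h m') := by
      intro l m
      have h1 : N (g l * k) (k⁻¹ * h m) = ∑ l', P l l' • N (g l') (k⁻¹ * h m) :=
        eq_sum_of_dual fun f => hP l _ (hN1 f (k⁻¹ * h m))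
      rw [h1]
      refine Finset.sum_congr rfl fun l' _ => ?_
      congr 1
      exact eq_sum_of_dual fun f => hQ m _ (hN2 f (g l'))
    let PM : Matrix ι ι K := Matrix.of P
    let QM : Matrix ι ι K := Matrix.of fun m' m => Q m m'
    -- the matrix identity in `S`
    have hmat : PM.map (algebraMap K S) * X₀ * QM.map (algebraMap K S) =
        Matrix.of fun l m => SymmetricAlgebra.ι K V (N (g l * k) (k⁻¹ * h m)) := by
      refine Matrix.ext fun l m => ?_
      rw [Matrix.of_apply, hNN, map_sum, Matrix.mul_assoc, Matrix.mul_apply]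
      refine Finset.sum_congr rfl fun l' _ => ?_
      rw [map_smul, map_sum, Matrix.map_apply, Matrix.mul_apply, Algebra.smul_def]
      congr 1
      refine Finset.sum_congr rfl fun m' _ => ?_
      rw [map_smul, Matrix.map_apply, Algebra.smul_def, mul_comm]
      rfl
    have h1 : symAct ρ k ((Matrix.of fun l m =>
        SymmetricAlgebra.ι K V (N (g l * k) (k⁻¹ * h m)) : Matrix ι ι S).det) = X₀.det := by
      rw [AlgHom.map_det]
      congr 1
      refine Matrix.ext fun l m => ?_
      change symAct ρ k (SymmetricAlgebra.ι K V (N (g l * k) (k⁻¹ * h m))) = _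
      rw [symAct_ι, hN]
      rfl
    have h2 : symAct ρ k ((Matrix.of fun l m =>
        SymmetricAlgebra.ι K V (N (g l * k) (k⁻¹ * h m)) : Matrix ι ι S).det) =
        (PM.det * QM.det) • symAct ρ k X₀.det := by
      rw [← hmat, Matrix.det_mul, Matrix.det_mul, map_mul, map_mul]
      have h3 : ∀ W : Matrix ι ι K, (W.map (algebraMap K S)).det = algebraMap K S W.det := fun W => by
        rw [← RingHom.mapMatrix_apply, ← RingHom.map_det]
      rw [h3, h3, AlgHom.commutes, AlgHom.commutes, Algebra.smul_def, map_mul]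
      ring
    have h4 : PM.det * QM.det = 1 := by
      have h5 := congrArg (symTo φ) (h2.symm.trans h1)
      rw [map_smul, symTo_symAct hφ, hX] at h5
      have h6 := congrArg (fun p : K[X] => p.coeff (Fintype.card ι)) h5
      simp only [Polynomial.coeff_smul, Polynomial.coeff_C_mul, Polynomial.coeff_X_pow_self, mul_one,
        smul_eq_mul] at h6
      exact mul_right_cancel₀ hdet (h6.trans (one_mul _).symm)
    rw [h4, one_smul] at h2
    exact h2.symm.trans h1
  refine ⟨C.det⁻¹ • X₀.det, fun k => by rw [map_smul, key], ?_⟩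
  rw [map_smul, hX, Polynomial.smul_eq_C_mul, ← mul_assoc, ← map_mul, inv_mul_cancel₀ hdet, map_one,
    one_mul]

end K702.Hab
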