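import Groth.Agent.AGF.K702.Conn
import Groth.Agent.AGF.K498.CharZero
import Groth.Agent.AGF.K497.GM

/-!
# Haboush's theorem

Geometric reductivity of linear algebraic groups with reductive identity component over an algebraically
closed field.
-/

set_option autoImplicit false
set_option linter.unusedSectionVars false
universe u

open CategoryTheory MonoidalCategory CartesianMonoidalCategory MonObj GrpObj AlgebraicGeometry
open Groth.Agent.Books.AffBridge Groth.Agent.Books.AffBridge2
open Groth.Agent.Sga3B.RG Groth.Agent.Sga3B.RG.BrPts K495.ObsPt K495.Bridge K495.GModPt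
open K497.Rat (GeomRed symAct symTo symAct_ι symTo_ι symTo_symAct)

namespace K702.Hab

section abs

variable {K : Type u} [Field K] {A A₀ : Type u} [CommRing A] [HopfAlgebra K A] [CommRing A₀] [HopfAlgebra K A₀]

/-- geometric reductivity passes to overgroups of finite index -/
theorem geomRed_of_finiteIndex (π : Pt K A₀ →* Pt K A) (hreg : IsReg π) (hfin : π.range.index ≠ 0)
    (h : GeomRed K A₀) : GeomRed K A := by
  classical
  intro V _ _ _ ρ hρ φ hφ hφ0
  obtain ⟨n, hn, F, hF, hF2⟩ := h V (ρ.comp π) (by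
    intro f v
    obtain ⟨a, ha⟩ := hρ f v
    obtain ⟨a₁, ha₁⟩ := hreg a
    exact ⟨a₁, fun g => (ha (π g)).trans (ha₁ g)⟩) φ (fun g v => hφ (π g) v) hφ0
  have hF' : ∀ g ∈ π.range, symAct ρ g F = F := by
    rintro _ ⟨g, rfl⟩
    exact hF g
  have hfi : Finite (Pt K A ⧸ π.range) := Subgroup.index_ne_zero_iff_finite.1 hfin
  have := Fintype.ofFinite (Pt K A ⧸ π.range)
  have hne : Nonempty (Pt K A ⧸ π.range) := ⟨((1 : Pt K A) : Pt K A ⧸ π.range)⟩
  refine ⟨n * Fintype.card (Pt K A ⧸ π.range), Nat.mul_pos hn Fintype.card_pos,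
    ∏ q : Pt K A ⧸ π.range, symAct ρ q.out F, fun g => ?_, ?_⟩
  · rw [map_prod]
    refine Fintype.prod_equiv (MulAction.toPerm g) _ _ fun q => ?_
    have h1 : (g * q.out)⁻¹ * (MulAction.toPerm g q : Pt K A ⧸ π.range).out ∈ π.range := by
      rw [← QuotientGroup.eq]
      refine Eq.trans ?_ (Quotient.out_eq (MulAction.toPerm g q : Pt K A ⧸ π.range)).symm
      change ((g * q.out : Pt K A) : Pt K A ⧸ π.range) = g • q
      conv_rhs => rw [← Quotient.out_eq q]
      rfl
    have h2 : symAct ρ (MulAction.toPerm g q : Pt K A ⧸ π.range).out F =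
        symAct ρ (g * q.out) (symAct ρ ((g * q.out)⁻¹ * (MulAction.toPerm g q : Pt K A ⧸ π.range).out) F) := by
      rw [← AlgHom.mul_apply, ← map_mul, mul_inv_cancel_left]
    rw [h2, hF' _ h1, map_mul, AlgHom.mul_apply]
  · rw [map_prod]
    simp only [symTo_symAct hφ, hF2, Finset.prod_const, Finset.card_univ, ← pow_mul]

/-- linearly reductive groups are geometrically reductive -/
theorem geomRed_of_linRed [IsAlgClosed K] [Algebra.FiniteType K A] [_root_.IsReduced A]
    (h : HopfRep.IsLinearlyReductive.{u} K A) : GeomRed K A := by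
  intro V _ _ _ ρ hρ φ hφ hφ0
  obtain ⟨W, hW, hWs⟩ := K498.CompRed.exists_compl h hρ (LinearMap.ker φ) (fun p x hx => by
    rw [LinearMap.mem_ker] at hx ⊢
    rw [hφ, hx])
  obtain ⟨v, hv⟩ : ∃ v, φ v ≠ 0 := by
    by_contra! hc
    exact hφ0 (LinearMap.ext hc)
  obtain ⟨w, hw, w', hw', hww⟩ := Submodule.mem_sup.1 (show v ∈ LinearMap.ker φ ⊔ W by
    rw [hW.sup_eq_top]; trivial)
  have hw0 : φ w' = φ v := by
    rw [← hww, map_add, LinearMap.mem_ker.1 hw, zero_add]
  have hfix : ∀ g, ρ g w' = w' := by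
    intro g
    have h1 : ρ g w' - w' ∈ LinearMap.ker φ ⊓ W := by
      refine ⟨?_, W.sub_mem (hWs g w' hw') hw'⟩
      change φ (ρ g w' - w') = 0
      rw [map_sub, hφ, sub_self]
    rw [hW.inf_eq_bot, Submodule.mem_bot] at h1
    exact sub_eq_zero.1 h1
  refine ⟨1, one_pos, (φ v)⁻¹ • SymmetricAlgebra.ι K V w', fun g => ?_, ?_⟩
  · rw [map_smul, symAct_ι, hfix]
  · rw [map_smul, symTo_ι, hw0, smul_smul, inv_mul_cancel₀ hv, one_smul, pow_one]

end abs

section scheme

variable {k : Type u} [Field k] [IsAlgClosed k] {G : Over (Spec (CommRingCat.of k))} [GrpObj G]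
  {A : Type u} [CommRing A] [HopfAlgebra k A] [Algebra.FiniteType k A] [_root_.IsReduced A]
  (e : G ≅ SpecOver k A) [IsMonHom e.hom]

include e in
/-- **Haboush's theorem.** -/
theorem geomRed_of_isReductiveGrp (hG : VecGrp.IsReductiveGrp k G) : GeomRed k A := by
  obtain ⟨haff, hsm, G₀, _, j, hj, hjo, hred⟩ := hG
  have hjcl : IsClosedImmersion j.left := K495.OpenSub.isClosedImmersion_of_open j
  have hj0 : IsAffine G₀.left := K495.OpenSub.isAffine_of_open j
  have hjs : Smooth G₀.hom := K495.OpenSub.smooth_of_open j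
  obtain ⟨C₀, _, _, e₀, he₀, φ, hft0, hred0, hφ, hi⟩ := exists_hom_data e j
  have hC := BrRed2.isReductiveOver_of_iso e₀ hred
  obtain ⟨hdom, hRed⟩ := BrRed.isRedPt_of_isReductiveOver hC
  refine geomRed_of_finiteIndex (Pt.map φ) (isReg_map φ) ?_ ?_
  · rw [← psub_eq_range e j e₀ φ hi]
    exact K495.OpenSub.index_ne_zero (K495.OpenSub.isCl_compl_psub e j)
  · obtain ⟨p, hp⟩ := CharP.exists k
    rcases CharP.char_is_prime_or_zero k p with h | h
    · have : Fact p.Prime := ⟨h⟩
      exact geomRed_of_reductive hC (p := p)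
    · subst h
      have : CharZero k := CharP.charP_to_charZero k
      exact geomRed_of_linRed (K798.LinRed.isLinearlyReductive hRed)

end scheme

end K702.Hab
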