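import Groth.Agent.AGF.K702.LinPts
import Mathlib.RingTheory.MvPolynomial.Ideal
import Mathlib.Algebra.CharP.Frobenius
import Mathlib.Data.Nat.Choose.Dvd
import Mathlib.Data.Nat.Choose.Sum

/-!
# Polynomials modulo `q`-th powers of the variables

`Jq` : the ideal generated by the `X c ^ q`, `q` a power of the characteristic.
* `map_mem_Jq`: substitutions without constant term preserve it;
* `exists_det`: for a formal multiplication `z(x, y)` with `z(x, 0) = x`, `z(0, y) = y` and
  `f ≡ c ∏ X^(q-1)`, `c ≠ 0`, the kernel `f(z(x, y))` has rank at least `q ^ n`.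
-/

set_option autoImplicit false

namespace K702.Hab

open MvPolynomial

section Jq

variable {σ τ K : Type*} [Field K]

variable (σ K) in
/-- the ideal generated by the `q`-th powers of the variables -/
noncomputable def Jq (q : ℕ) : Ideal (MvPolynomial σ K) := Ideal.span (Set.range fun c => (X c : MvPolynomial σ K) ^ q)

lemma mem_Jq_iff {q : ℕ} {f : MvPolynomial σ K} : f ∈ Jq σ K q ↔ ∀ e ∈ f.support, ∃ c, q ≤ e c := by
  classical
  have h1 : Set.range (fun c => (X c : MvPolynomial σ K) ^ q) =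
      (fun s => monomial s (1 : K)) '' (Set.range fun c : σ => Finsupp.single c q) := by
    rw [← Set.range_comp]
    congr 1
    funext c
    simp [X_pow_eq_monomial]
  rw [Jq, h1, mem_ideal_span_monomial_image]
  constructor
  · intro h e he
    obtain ⟨_, ⟨c, rfl⟩, hc⟩ := h e he
    exact ⟨c, by simpa using hc c⟩
  · intro h e he
    obtain ⟨c, hc⟩ := h e he
    refine ⟨_, ⟨c, rfl⟩, ?_⟩
    intro d
    by_cases hd : d = c
    · subst hd; simpa using hc
    · rw [Finsupp.single_eq_of_ne hd]; exact Nat.zero_le _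

lemma coeff_eq_zero_of_mem_Jq {q : ℕ} {f : MvPolynomial σ K} (hf : f ∈ Jq σ K q) {e : σ →₀ ℕ}
    (he : ∀ c, e c < q) : coeff e f = 0 := by
  by_contra hne
  obtain ⟨c, hc⟩ := mem_Jq_iff.1 hf e (mem_support_iff.2 hne)
  exact absurd (he c) (not_lt.2 hc)

variable {p r : ℕ} [Fact p.Prime] [CharP K p]

lemma pow_mem_Jq {g : MvPolynomial σ K} (hg : constantCoeff g = 0) : g ^ p ^ r ∈ Jq σ K (p ^ r) := by
  classical
  have hE : ExpChar (MvPolynomial σ K) p := ExpChar.prime (Fact.out)
  rw [g.as_sum, sum_pow_char_pow]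
  refine Ideal.sum_mem _ fun m hm => ?_
  rw [monomial_pow, mem_Jq_iff]
  intro e he
  have he' := support_monomial_subset he
  rw [Finset.mem_singleton] at he'
  subst he'
  have hm0 : m ≠ 0 := by
    rintro rfl
    exact (mem_support_iff.1 hm) hg
  obtain ⟨c, hc⟩ : ∃ c, m c ≠ 0 := by
    by_contra! h
    exact hm0 (Finsupp.ext h)
  refine ⟨c, ?_⟩
  rw [Finsupp.smul_apply, smul_eq_mul]
  exact Nat.le_mul_of_pos_right _ (Nat.pos_of_ne_zero hc)

/-- substitutions without constant term preserve the ideal -/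
lemma map_mem_Jq (φ : MvPolynomial σ K →ₐ[K] MvPolynomial τ K) (h : ∀ c, constantCoeff (φ (X c)) = 0)
    {f : MvPolynomial σ K} (hf : f ∈ Jq σ K (p ^ r)) : φ f ∈ Jq τ K (p ^ r) := by
  have h1 : Jq σ K (p ^ r) ≤ (Jq τ K (p ^ r)).comap φ.toRingHom := by
    rw [Jq, Ideal.span_le]
    rintro _ ⟨c, rfl⟩
    change φ (X c ^ p ^ r) ∈ Jq τ K (p ^ r)
    rw [map_pow]
    exact pow_mem_Jq (h c)
  exact h1 hf

/-- the binomial coefficients `(q - 1 choose j)` are nonzero -/
lemma choose_ne_zero {j : ℕ} (hj : j < p ^ r) : (((p ^ r - 1).choose j : ℕ) : K) ≠ 0 := by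
  have hp : p.Prime := Fact.out
  have hq : 0 < p ^ r := pow_pos hp.pos r
  induction j with
  | zero => simp
  | succ j ih =>
    have h1 := ih (by omega)
    have h2 : ((((p ^ r).choose (j + 1) : ℕ)) : K) = 0 := by
      rw [CharP.cast_eq_zero_iff K p]
      exact (hp.dvd_choose_pow_iff).2 ⟨by omega, by omega⟩
    have h3 : (p ^ r).choose (j + 1) = (p ^ r - 1).choose j + (p ^ r - 1).choose (j + 1) := by
      conv_lhs => rw [← Nat.sub_add_cancel hq]
      rw [Nat.choose_succ_succ]
    rw [h3, Nat.cast_add] at h2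
    intro h4
    rw [h4, add_zero] at h2
    exact h1 h2

end Jq

section mult

variable {σ K : Type*} [Field K]

lemma sumAlg_monomial (m : σ ⊕ σ →₀ ℕ) (a : K) :
    sumAlgEquiv K σ σ (monomial m a) = monomial (Finsupp.sumFinsuppEquivProdFinsupp m).1
      (monomial (Finsupp.sumFinsuppEquivProdFinsupp m).2 a) := by
  simp [sumAlgEquiv, monomial, AddMonoidAlgebra.lsingle]

lemma coeff_sumAlg (P : MvPolynomial (σ ⊕ σ) K) (e e' : σ →₀ ℕ) :
    coeff e' (coeff e (sumAlgEquiv K σ σ P)) = coeff (Finsupp.sumElim e e') P := by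
  classical
  induction P using MvPolynomial.induction_on' with
  | add p q hp hq => rw [map_add, coeff_add, coeff_add, coeff_add, hp, hq]
  | monomial m a =>
    rw [sumAlg_monomial, coeff_monomial, coeff_monomial]
    by_cases h : m = Finsupp.sumElim e e'
    · subst h
      have h1 : (Finsupp.sumFinsuppEquivProdFinsupp (Finsupp.sumElim e e')).1 = e := by
        ext c; simp
      have h2 : (Finsupp.sumFinsuppEquivProdFinsupp (Finsupp.sumElim e e')).2 = e' := by
        ext c; simp
      rw [if_pos h1, h2, coeff_monomial, if_pos rfl, if_pos rfl]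
    · rw [if_neg h]
      split_ifs with h1
      · rw [coeff_monomial, if_neg]
        intro h2
        apply h
        ext c
        rcases c with c | c
        · rw [← h1]; simp
        · rw [← h2]; simp
      · rw [coeff_zero]

lemma prod_sub_mem {R ι : Type*} [CommRing R] (I : Ideal R) (n : ℕ) (s : Finset ι) (a b : ι → R)
    (ha : ∀ i ∈ s, a i ∈ I ^ n) (hb : ∀ i ∈ s, b i ∈ I ^ n)
    (hab : ∀ i ∈ s, a i - b i ∈ I ^ (n + 1)) :
    ∏ i ∈ s, a i ∈ I ^ (s.card * n) ∧ ∏ i ∈ s, b i ∈ I ^ (s.card * n) ∧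
      ∏ i ∈ s, a i - ∏ i ∈ s, b i ∈ I ^ (s.card * n + 1) := by
  classical
  induction s using Finset.induction_on with
  | empty => simp
  | insert i s hi ih =>
    obtain ⟨h1, h2, h3⟩ := ih (fun j hj => ha j (Finset.mem_insert_of_mem hj))
      (fun j hj => hb j (Finset.mem_insert_of_mem hj))
      (fun j hj => hab j (Finset.mem_insert_of_mem hj))
    have ha' := ha i (Finset.mem_insert_self _ _)
    have hb' := hb i (Finset.mem_insert_self _ _)
    have hab' := hab i (Finset.mem_insert_self _ _)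
    rw [Finset.prod_insert hi, Finset.prod_insert hi, Finset.card_insert_of_notMem hi]
    have e1 : (s.card + 1) * n = n + s.card * n := by ring
    refine ⟨?_, ?_, ?_⟩
    · rw [e1, pow_add]; exact Ideal.mul_mem_mul ha' h1
    · rw [e1, pow_add]; exact Ideal.mul_mem_mul hb' h2
    · have e2 : a i * ∏ j ∈ s, a j - b i * ∏ j ∈ s, b j =
          (a i - b i) * ∏ j ∈ s, a j + b i * (∏ j ∈ s, a j - ∏ j ∈ s, b j) := by ring
      rw [e2]
      refine Ideal.add_mem _ ?_ ?_
      · have e3 : (s.card + 1) * n + 1 = (n + 1) + s.card * n := by ring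
        rw [e3, pow_add]; exact Ideal.mul_mem_mul hab' h1
      · have e3 : (s.card + 1) * n + 1 = n + (s.card * n + 1) := by ring
        rw [e3, pow_add]; exact Ideal.mul_mem_mul hb' h3

variable [Fintype σ] [DecidableEq σ]

/-- exponents from bounded functions -/
noncomputable def expo (f : σ → ℕ) : σ →₀ ℕ := Finsupp.equivFunOnFinite.symm f

omit [DecidableEq σ] in
@[simp] lemma expo_apply (f : σ → ℕ) (c : σ) : expo f c = f c := rfl

/-- coefficients of `∏ (x_c + y_c) ^ k` -/
lemma coeff_prod_add (k : ℕ) (e e' : σ →₀ ℕ) :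
    coeff (Finsupp.sumElim e e') (∏ c, ((X (Sum.inl c) + X (Sum.inr c)) ^ k :
      MvPolynomial (σ ⊕ σ) K)) =
      if ∀ c, e c + e' c = k then ∏ c, ((k.choose (e c) : ℕ) : K) else 0 := by
  have h1 : ∀ c : σ, ((X (Sum.inl c) + X (Sum.inr c)) ^ k : MvPolynomial (σ ⊕ σ) K) =
      ∑ j ∈ Finset.range (k + 1), X (Sum.inl c) ^ j * X (Sum.inr c) ^ (k - j) *
        ((k.choose j : ℕ) : MvPolynomial (σ ⊕ σ) K) := fun c => add_pow _ _ _
  rw [Finset.prod_congr rfl fun c _ => h1 c, Finset.prod_univ_sum, coeff_sum]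
  have h2 : ∀ f : σ → ℕ, (∏ c, (X (Sum.inl c) ^ f c * X (Sum.inr c) ^ (k - f c) *
      ((k.choose (f c) : ℕ) : MvPolynomial (σ ⊕ σ) K))) =
      monomial (Finsupp.sumElim (expo f) (expo fun c => k - f c)) (∏ c, ((k.choose (f c) : ℕ) : K)) := by
    intro f
    rw [Finset.prod_mul_distrib, monomial_eq, mul_comm (C _)]
    congr 1
    · rw [Finsupp.prod_fintype _ _ (by simp), Fintype.prod_sum_type, Finset.prod_mul_distrib]
      simp
    · rw [map_prod]
      exact Finset.prod_congr rfl fun c _ => by rw [map_natCast]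
  have h3 : ∀ f : σ → ℕ, coeff (Finsupp.sumElim e e') (∏ c, (X (Sum.inl c) ^ f c *
      X (Sum.inr c) ^ (k - f c) * ((k.choose (f c) : ℕ) : MvPolynomial (σ ⊕ σ) K))) =
      if Finsupp.sumElim (expo f) (expo fun c => k - f c) = Finsupp.sumElim e e' then
        ∏ c, ((k.choose (f c) : ℕ) : K) else 0 := fun f => by rw [h2, coeff_monomial]
  rw [Finset.sum_congr rfl fun f _ => h3 f]
  split_ifs with h
  · rw [Finset.sum_eq_single (fun c => e c)]
    · rw [if_pos]
      ext c
      rcases c with c | c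
      · simp
      · have := h c
        simp only [Finsupp.sumElim_inr, expo_apply]
        omega
    · intro f _ hf
      rw [if_neg]
      intro h4
      apply hf
      funext c
      have := DFunLike.congr_fun h4 (Sum.inl c)
      simpa using this
    · intro h4
      exfalso
      apply h4
      rw [Fintype.mem_piFinset]
      intro c
      rw [Finset.mem_range]
      have := h c
      omega
  · apply Finset.sum_eq_zero
    intro f hf
    rw [Fintype.mem_piFinset] at hf
    rw [if_neg]
    intro h4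
    apply h
    intro c
    have h5 := DFunLike.congr_fun h4 (Sum.inl c)
    have h6 := DFunLike.congr_fun h4 (Sum.inr c)
    have h7 := Finset.mem_range.1 (hf c)
    simp only [Finsupp.sumElim_inl, Finsupp.sumElim_inr, expo_apply] at h5 h6
    omega

end mult

end K702.Hab
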