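import Groth.Agent.AGF.K702.Frob

/-!
# The rank of `f(z(x, y))` for `f ≡ c ∏ X^(q-1)` modulo `q`-th powers
-/

set_option autoImplicit false

namespace K702.Hab

open MvPolynomial

variable {σ K : Type*} [Field K] [Fintype σ] [DecidableEq σ]

lemma coeff_left (P : MvPolynomial (σ ⊕ σ) K) (e : σ →₀ ℕ) :
    coeff e (aeval (Sum.elim X 0 : σ ⊕ σ → MvPolynomial σ K) P) = coeff (Finsupp.sumElim e 0) P := by
  induction P using MvPolynomial.induction_on' with
  | add p q hp hq => rw [map_add, coeff_add, coeff_add, hp, hq]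
  | monomial m a =>
    rw [aeval_monomial, Finsupp.prod_fintype _ _ (by simp), Fintype.prod_sum_type, coeff_monomial]
    simp only [Sum.elim_inl, Sum.elim_inr, Pi.zero_apply, algebraMap_eq]
    by_cases h0 : ∀ c, m (Sum.inr c) = 0
    · have h1 : ∏ c, (0 : MvPolynomial σ K) ^ m (Sum.inr c) = 1 :=
        Finset.prod_eq_one fun c _ => by rw [h0, pow_zero]
      have h2 : C a * ((∏ c, X c ^ m (Sum.inl c)) * ∏ c, (0 : MvPolynomial σ K) ^ m (Sum.inr c)) =
          monomial (expo fun c => m (Sum.inl c)) a := by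
        rw [h1, mul_one, monomial_eq, Finsupp.prod_fintype _ _ (by simp)]
        rfl
      rw [h2, coeff_monomial]
      congr 1
      rw [eq_iff_iff]
      constructor
      · rintro rfl
        ext c
        rcases c with c | c
        · simp
        · simp [h0 c]
      · rintro rfl
        ext c
        simp
    · push Not at h0
      obtain ⟨c, hc⟩ := h0
      have h1 : ∏ c, (0 : MvPolynomial σ K) ^ m (Sum.inr c) = 0 :=
        Finset.prod_eq_zero (Finset.mem_univ c) (zero_pow hc)
      rw [h1, mul_zero, mul_zero, coeff_zero, if_neg]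
      rintro rfl
      exact hc (by simp)

lemma coeff_right (P : MvPolynomial (σ ⊕ σ) K) (e : σ →₀ ℕ) :
    coeff e (aeval (Sum.elim 0 X : σ ⊕ σ → MvPolynomial σ K) P) = coeff (Finsupp.sumElim 0 e) P := by
  have h1 : aeval (Sum.elim 0 X : σ ⊕ σ → MvPolynomial σ K) P =
      aeval (Sum.elim X 0 : σ ⊕ σ → MvPolynomial σ K) (rename Sum.swap P) := by
    rw [aeval_rename]
    congr 2
    funext c
    rcases c with c | c <;> rfl
  rw [h1, coeff_left]
  have h2 : Finsupp.sumElim e (0 : σ →₀ ℕ) =
      Finsupp.mapDomain (Sum.swap : σ ⊕ σ → σ ⊕ σ) (Finsupp.sumElim (0 : σ →₀ ℕ) e) := by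
    have hinj : Function.Injective (Sum.swap : σ ⊕ σ → σ ⊕ σ) := Sum.swap_leftInverse.injective
    ext c
    rcases c with c | c
    · have := Finsupp.mapDomain_apply hinj (Finsupp.sumElim (0 : σ →₀ ℕ) e) (Sum.inr c)
      simp only [Sum.swap_inr] at this
      rw [this]; simp
    · have := Finsupp.mapDomain_apply hinj (Finsupp.sumElim (0 : σ →₀ ℕ) e) (Sum.inl c)
      simp only [Sum.swap_inl] at this
      rw [this]; simp
  rw [h2, coeff_rename_mapDomain _ Sum.swap_leftInverse.injective]

omit [DecidableEq σ] in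
lemma degree_sumElim (e e' : σ →₀ ℕ) :
    Finsupp.degree (Finsupp.sumElim e e') = ∑ c, e c + ∑ c, e' c := by
  rw [Finsupp.degree_eq_sum, Fintype.sum_sum_type]
  simp

omit [Fintype σ] [DecidableEq σ] in
lemma exists_sumElim (x : σ ⊕ σ →₀ ℕ) : ∃ e e' : σ →₀ ℕ, x = Finsupp.sumElim e e' := by
  refine ⟨(Finsupp.sumFinsuppEquivProdFinsupp x).1, (Finsupp.sumFinsuppEquivProdFinsupp x).2, ?_⟩
  ext c
  rcases c with c | c <;> simp

variable {z : σ → MvPolynomial (σ ⊕ σ) K}
  (hz1 : ∀ c, aeval (Sum.elim X 0 : σ ⊕ σ → MvPolynomial σ K) (z c) = X c)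
  (hz2 : ∀ c, aeval (Sum.elim 0 X : σ ⊕ σ → MvPolynomial σ K) (z c) = X c)

include hz1 in
lemma constantCoeff_z (c : σ) : constantCoeff (z c) = 0 := by
  have h1 := coeff_left (z c) 0
  rw [hz1] at h1
  have h2 : Finsupp.sumElim (0 : σ →₀ ℕ) (0 : σ →₀ ℕ) = 0 := by
    ext c; rcases c with c | c <;> simp
  rw [h2] at h1
  rw [constantCoeff_eq, ← h1]
  simp

include hz1 hz2 in
lemma z_sub_mem (c : σ) : z c - (X (Sum.inl c) + X (Sum.inr c)) ∈ idealOfVars (σ ⊕ σ) K ^ 2 := by
  rw [mem_pow_idealOfVars_iff']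
  intro x hx
  obtain ⟨e, e', rfl⟩ := exists_sumElim x
  rw [degree_sumElim] at hx
  have h : e = 0 ∨ e' = 0 := by
    by_contra hcon
    push Not at hcon
    obtain ⟨h1, h2⟩ := hcon
    obtain ⟨c₁, hc₁⟩ : ∃ c, e c ≠ 0 := by
      by_contra! h; exact h1 (Finsupp.ext h)
    obtain ⟨c₂, hc₂⟩ : ∃ c, e' c ≠ 0 := by
      by_contra! h; exact h2 (Finsupp.ext h)
    have h3 := Finset.single_le_sum (f := fun c => e c) (fun c _ => Nat.zero_le _) (Finset.mem_univ c₁)
    have h4 := Finset.single_le_sum (f := fun c => e' c) (fun c _ => Nat.zero_le _) (Finset.mem_univ c₂)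
    omega
  rcases h with rfl | rfl
  · rw [← coeff_right, map_sub, hz2, map_add, aeval_X, aeval_X]
    simp
  · rw [← coeff_left, map_sub, hz1, map_add, aeval_X, aeval_X]
    simp

include hz1 hz2 in
lemma prod_z_sub_mem (k : ℕ) : ∏ c, z c ^ k - ∏ c, (X (Sum.inl c) + X (Sum.inr c)) ^ k ∈
    idealOfVars (σ ⊕ σ) K ^ (Fintype.card σ * k + 1) := by
  set I := idealOfVars (σ ⊕ σ) K with hI
  have hX : ∀ c, (X c : MvPolynomial (σ ⊕ σ) K) ∈ I := fun c => Ideal.subset_span ⟨c, rfl⟩
  have h0 : ∀ c, (X (Sum.inl c) + X (Sum.inr c) : MvPolynomial (σ ⊕ σ) K) ∈ I := fun c =>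
    I.add_mem (hX _) (hX _)
  have h1 : ∀ c, z c ∈ I := fun c => by
    have h2 : z c = (z c - (X (Sum.inl c) + X (Sum.inr c))) + (X (Sum.inl c) + X (Sum.inr c)) := by
      ring
    rw [h2]
    exact I.add_mem (Ideal.pow_le_self two_ne_zero (z_sub_mem hz1 hz2 c)) (h0 c)
  have h2 : ∀ c, z c ^ k ∈ I ^ k ∧ (X (Sum.inl c) + X (Sum.inr c) : MvPolynomial (σ ⊕ σ) K) ^ k ∈ I ^ k ∧
      z c ^ k - (X (Sum.inl c) + X (Sum.inr c)) ^ k ∈ I ^ (k + 1) := by
    intro c
    have := prod_sub_mem I 1 (Finset.range k) (fun _ => z c)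
      (fun _ => (X (Sum.inl c) + X (Sum.inr c) : MvPolynomial (σ ⊕ σ) K))
      (fun _ _ => by rw [pow_one]; exact h1 c) (fun _ _ => by rw [pow_one]; exact h0 c)
      (fun _ _ => z_sub_mem hz1 hz2 c)
    simpa using this
  have := prod_sub_mem I k Finset.univ (fun c => z c ^ k)
    (fun c => (X (Sum.inl c) + X (Sum.inr c) : MvPolynomial (σ ⊕ σ) K) ^ k)
    (fun c _ => (h2 c).1) (fun c _ => (h2 c).2.1) (fun c _ => (h2 c).2.2)
  exact this.2.2

variable {p r : ℕ} [Fact p.Prime] [CharP K p]

include hz1 hz2 in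
/-- **The rank of `f(z(x, y))`.** -/
theorem exists_det [Infinite K] {f : MvPolynomial σ K} {c : K} (hc : c ≠ 0)
    (hf : f - C c * ∏ i, X i ^ (p ^ r - 1) ∈ Jq σ K (p ^ r)) :
    ∃ x y : (σ → Fin (p ^ r)) → σ → K, (Matrix.of fun l m =>
      eval (fun i => eval (Sum.elim (x l) (y m)) (z i)) f).det ≠ 0 := by
  classical
  have hp : p.Prime := Fact.out
  have hq : 0 < p ^ r := pow_pos hp.pos r
  set q := p ^ r with hqdef
  let P : MvPolynomial (σ ⊕ σ) K := aeval z f
  have hP : P - C c * ∏ i, z i ^ (q - 1) ∈ Jq (σ ⊕ σ) K q := by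
    have h1 := map_mem_Jq (p := p) (r := r) (aeval z : MvPolynomial σ K →ₐ[K] MvPolynomial (σ ⊕ σ) K)
      (fun i => by rw [aeval_X]; exact constantCoeff_z hz1 i) hf
    rw [map_sub, map_mul, map_prod] at h1
    simp only [map_pow, aeval_X, aeval_C, algebraMap_eq] at h1
    exact h1
  have hcoeff : ∀ e e' : σ →₀ ℕ, (∀ i, e i < q) → (∀ i, e' i < q) →
      ∑ i, e i + ∑ i, e' i ≤ Fintype.card σ * (q - 1) →
      coeff (Finsupp.sumElim e e') P =
        c * if ∀ i, e i + e' i = q - 1 then ∏ i, (((q - 1).choose (e i) : ℕ) : K) else 0 := by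
    intro e e' he he' hd
    have h1 := coeff_eq_zero_of_mem_Jq hP (e := Finsupp.sumElim e e') (by
      intro i
      rcases i with i | i
      · simpa using he i
      · simpa using he' i)
    rw [coeff_sub, sub_eq_zero, coeff_C_mul] at h1
    have h2 := (mem_pow_idealOfVars_iff' _ _).1 (prod_z_sub_mem hz1 hz2 (q - 1))
      (Finsupp.sumElim e e') (by rw [degree_sumElim]; omega)
    rw [coeff_sub, sub_eq_zero] at h2
    rw [h1, h2, coeff_prod_add]
  -- the polynomials `ψ e`
  let ψ : (σ → Fin q) → MvPolynomial σ K := fun e => coeff (expo fun i => (e i : ℕ)) (sumAlgEquiv K σ σ P)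
  have hψ : ∀ (e : σ → Fin q) (e' : σ →₀ ℕ), coeff e' (ψ e) =
      coeff (Finsupp.sumElim (expo fun i => (e i : ℕ)) e') P := fun e e' => coeff_sumAlg P _ _
  let φ : (σ → Fin q) → (σ → K) → K := fun e y => eval y (ψ e)
  have hli : LinearIndependent K φ := by
    rw [Fintype.linearIndependent_iff]
    intro a ha
    by_contra hcon
    push Not at hcon
    obtain ⟨e₀, he₀⟩ := hcon
    obtain ⟨e, he, hmax⟩ := (Finset.univ.filter fun e => a e ≠ 0).exists_max_image
      (fun e : σ → Fin q => ∑ i, (e i : ℕ)) ⟨e₀, by simp [he₀]⟩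
    rw [Finset.mem_filter] at he
    have h1 : ∑ d, a d • ψ d = 0 := by
      apply MvPolynomial.funext
      intro y
      have h2 := congrFun ha y
      rw [Finset.sum_apply] at h2
      rw [map_sum, map_zero]
      simpa [φ, smul_eval] using h2
    have h2 := congrArg (coeff (expo fun i => q - 1 - (e i : ℕ))) h1
    rw [coeff_zero, coeff_sum, Finset.sum_eq_single e] at h2
    · rw [coeff_smul, hψ, hcoeff _ _ (fun i => by simp) (fun i => by simp; omega), if_pos,
        smul_eq_mul] at h2
      · refine mul_ne_zero he.2 (mul_ne_zero hc (Finset.prod_ne_zero_iff.2 fun i _ => ?_)) h2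
        exact choose_ne_zero (p := p) (r := r) (by simp; exact (e i).2)
      · intro i
        have := (e i).2
        simp only [expo_apply]
        omega
      · rw [← Finset.sum_add_distrib]
        refine (Finset.sum_le_card_nsmul _ _ (q - 1) fun i _ => ?_).trans (by simp)
        have := (e i).2
        simp only [expo_apply]
        omega
    · intro d _ hde
      by_cases had : a d = 0
      · rw [had, zero_smul, coeff_zero]
      have hle := hmax d (by simp [had])
      have h3 : ∑ i, ((e i : ℕ) + (q - 1 - (e i : ℕ))) = Fintype.card σ * (q - 1) := by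
        rw [Finset.sum_congr rfl fun i _ => (show (e i : ℕ) + (q - 1 - (e i : ℕ)) = q - 1 by
          have := (e i).2; omega)]
        simp
      rw [Finset.sum_add_distrib] at h3
      rw [coeff_smul, hψ, hcoeff _ _ (fun i => by simp) (fun i => by simp; omega) (by
        simp only [expo_apply]; omega), if_neg, mul_zero, smul_zero]
      intro h4
      apply hde
      funext i
      have h5 := h4 i
      simp only [expo_apply] at h5
      apply Fin.ext
      have := (e i).2
      have := (d i).2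
      omega
    · intro h; exact absurd (Finset.mem_univ _) h
  obtain ⟨x, y, hxy⟩ := exists_points₂ (fun x y => eval (Sum.elim x y) P) φ hli (by
    intro e
    let Q : (σ → K) → MvPolynomial σ K := fun y => map (eval y) (sumAlgEquiv K σ σ P)
    have hQ : ∀ y, coeff (expo fun i => (e i : ℕ)) (Q y) = φ e y := fun y => by
      rw [coeff_map]
    have h1 := coeff_mem_span (fun x y => eval (Sum.elim x y) P) Q ?_
      (sumAlgEquiv K σ σ P).support (fun y => support_map_subset _ _) (expo fun i => (e i : ℕ))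
    · simpa only [hQ] using h1
    · intro x y
      have h2 : (eval (Sum.elim x y) : MvPolynomial (σ ⊕ σ) K →+* K) =
          ((eval x).comp (map (eval y))).comp (sumAlgEquiv K σ σ : _ →+* _) := by
        apply MvPolynomial.ringHom_ext
        · intro a
          simp
        · intro i
          rcases i with i | i
          · simp
          · simp
      exact DFunLike.congr_fun h2 P)
  refine ⟨x, y, ?_⟩
  convert hxy using 3
  funext l m
  change _ = eval (Sum.elim (x l) (y m)) (aeval z f)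
  rw [aeval_def, eval_eval₂, eval_eq]
  simp [eval₂_eq]

end K702.Hab
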