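import Groth.Agent.Sga3B.MT.InfCell
import Groth.Agent.RedSub.H662.Homog

/-!
# The positive block of the adjoint representation of a pinned group

`Zc E v` : the root coordinates of an infinitesimal point `v`; `ad E g c d` : the `c`-coordinate of
`g u_d(ε) g⁻¹`.
-/

set_option autoImplicit false
set_option linter.unusedSectionVars false
universe u

namespace K702.Hab

open TrivSqZeroExt
open Groth.Agent.Sga3B Groth.Agent.Sga3B.Cell Groth.Agent.Sga3B.Word Groth.Agent.Sga3B.MT
open Groth.Agent.RedSub.H638.WeylBase Groth.Agent.RedSub.H638.WeylCover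
open Groth.Agent.RedSub.H662 Panel PosPt

variable {idx M : Type} [Fintype idx] [AddCommGroup M] [Module.Free ℤ M]
    [Module.Finite ℤ M] {P : RootPairing idx ℤ M (Module.Dual ℤ M)} {b : P.Base}
    {R A : Type u} [CommRing R] [CommRing A] [Algebra R A] [PtGrp R A] (E : PinCell P b R A)

section lie

variable {B C : Type u} [CommRing B] [Algebra R B] [CommRing C] [Algebra R C]

/-- `inr` of a family -/
def er (z : idx → B) : idx → Eps B := fun a => inr (z a)

/-- the infinitesimal point with given coordinates -/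
noncomputable def lie (z : idx → B) (h : M →+ B) : Pt R A (Eps B) :=
  E.cell (er z) (RCell.lieT h)

lemma isKer_uu (a : idx) (z : B) : IsKer (E.uu a (Eps B) (inr z)) := by
  unfold IsKer
  rw [E.uu_nat]
  have : (eFst R B) (inr z : Eps B) = 0 := by simp
  rw [this, E.uu_zero]

lemma isKer_i (h : M →+ B) : IsKer (E.i (Eps B) (RCell.lieT h)) := by
  unfold IsKer
  rw [E.i_nat]
  have : TPt.map (eFst R B) (RCell.lieT h) = 1 := by
    apply TPt.ext_ch
    intro m
    rw [TPt.ch_map, RCell.ch_lieT]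
    simp
  rw [this, map_one]

lemma isKer_prod (L : List idx) (z : idx → B) :
    IsKer ((L.map (fun a => E.uu a (Eps B) (er z a))).prod) := by
  induction L with
  | nil => exact isKer_one
  | cons a l ih =>
    rw [List.map_cons, List.prod_cons]
    exact (isKer_uu E a _).mul ih

lemma isKer_lie (z : idx → B) (h : M →+ B) : IsKer (lie E z h) :=
  (isKer_prod E _ z).mul (isKer_i E h)

lemma prod_add (L : List idx) (z z' : idx → B) :
    (L.map (fun a => E.uu a (Eps B) (er (z + z') a))).prod =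
      (L.map (fun a => E.uu a (Eps B) (er z a))).prod *
      (L.map (fun a => E.uu a (Eps B) (er z' a))).prod := by
  induction L with
  | nil => simp
  | cons a l ih =>
    rw [List.map_cons, List.prod_cons, List.map_cons, List.prod_cons, List.map_cons, List.prod_cons, ih]
    have h0 : er (z + z') a = er z a + er z' a := by
      change inr (z a + z' a) = _
      rw [inr_add]; rfl
    rw [h0, E.uu_add]
    have h1 := (isKer_uu E a (z' a)).commute (isKer_prod E l z)
    change E.uu a (Eps B) (er z' a) * _ = _ * E.uu a (Eps B) (er z' a) at h1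
    calc _ = E.uu a (Eps B) (er z a) * (E.uu a (Eps B) (er z' a) *
          (l.map (fun a => E.uu a (Eps B) (er z a))).prod) *
          (l.map (fun a => E.uu a (Eps B) (er z' a))).prod := by
            simp only [mul_assoc]
      _ = _ := by rw [h1]; simp only [mul_assoc]

lemma lie_add (z z' : idx → B) (h h' : M →+ B) :
    lie E (z + z') (h + h') = lie E z h * lie E z' h' := by
  unfold lie PinCell.cell
  rw [prod_add, RCell.lieT_add, map_mul]
  have h1 := (isKer_prod E (allList b) z').commute (isKer_i E h)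
  calc _ = (List.map (fun a => E.uu a (Eps B) (er z a)) (allList b)).prod *
        ((List.map (fun a => E.uu a (Eps B) (er z' a)) (allList b)).prod *
        E.i (Eps B) (RCell.lieT h)) * E.i (Eps B) (RCell.lieT h') := by
          simp only [mul_assoc]
    _ = _ := by rw [h1]; simp only [mul_assoc]

lemma lie_zero : lie E (0 : idx → B) 0 = 1 := by
  unfold lie
  have : er (0 : idx → B) = fun _ => 0 := by
    funext a; simp [er]
  rw [this, RCell.lieT_zero]
  exact (E.toDatum.cell_zero (B := Eps B) (allList b) 1).trans (map_one _)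

lemma lie_inj {z z' : idx → B} {h h' : M →+ B} (e : lie E z h = lie E z' h') :
    z = z' ∧ h = h' := by
  obtain ⟨h1, h2⟩ := E.cell_injective e
  refine ⟨?_, RCell.lieT_inj h2⟩
  funext a
  have := congrArg snd (congrFun h1 a)
  simpa [er] using this

lemma exists_lie (v : Pt R A (Eps B)) (hv : IsKer v) :
    ∃ (z : idx → B) (h : M →+ B), v = lie E z h := by
  have hcell : InC E v := by
    change ∃ (x : idx → Eps B) (t : TPt M (Eps B)), v =
      ((allList b).map (fun a => E.uu a (Eps B) (x a))).prod * E.i (Eps B) t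
    rw [E.mem_cell_iff]
    have h1 : E.cellIdeal.map (Pt.map (eFst R B) v).hom.toRingHom = ⊤ := by
      rw [← E.mem_cell_iff]
      have := inC_one E (B := B)
      rw [← show Pt.map (eFst R B) v = 1 from hv] at this
      exact this
    have h2 : E.cellIdeal.map (Pt.map (eFst R B) v).hom.toRingHom =
        (E.cellIdeal.map v.hom.toRingHom).map (eFst R B).toRingHom := by
      rw [Ideal.map_map]; rfl
    rw [h2] at h1
    have h3 : (1 : B) ∈ (E.cellIdeal.map v.hom.toRingHom).map (eFst R B).toRingHom := by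
      rw [h1]; trivial
    rw [Ideal.mem_map_iff_of_surjective (eFst R B).toRingHom (fun z => ⟨inl z, rfl⟩)] at h3
    obtain ⟨z, hz, hz1⟩ := h3
    refine Ideal.eq_top_of_isUnit_mem _ hz ?_
    rw [TrivSqZeroExt.isUnit_iff_isUnit_fst]
    have : z.fst = 1 := hz1
    rw [this]
    exact isUnit_one
  obtain ⟨x, t, hxt⟩ := hcell
  have h2 : E.cell (fun a => (eFst R B) (x a)) (TPt.map (eFst R B) t) = E.cell (fun _ => 0) 1 := by
    rw [← E.cell_nat, ← hxt, show Pt.map (eFst R B) v = 1 from hv]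
    exact ((E.toDatum.cell_zero (B := B) (allList b) 1).trans (map_one _)).symm
  obtain ⟨h3, h4⟩ := E.cell_injective h2
  obtain ⟨h, rfl⟩ := RCell.exists_lieT (R := R) h4
  refine ⟨fun a => (x a).snd, h, ?_⟩
  rw [hxt]
  unfold lie
  congr 1
  funext a
  have h5 := congrFun h3 a
  ext
  · exact h5
  · rfl

lemma lie_nat (ψ : B →ₐ[R] C) (z : idx → B) (h : M →+ B) :
    Pt.map (eMap ψ) (lie E z h) = lie E (fun a => ψ (z a)) ((ψ : B →+ C).comp h) := by
  unfold lie
  rw [E.cell_nat, RCell.map_lieT]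
  congr 1
  funext a
  ext <;> simp [er]

lemma lie_scale (c : B) (z : idx → B) (h : M →+ B) :
    Pt.map (eScale R c) (lie E z h) = lie E (fun a => c * z a) ((AddMonoidHom.mulLeft c).comp h) := by
  unfold lie
  have e1 : TPt.map (eScale R c) (RCell.lieT h) = RCell.lieT ((AddMonoidHom.mulLeft c).comp h) := by
    apply TPt.ext_ch
    intro m
    rw [TPt.ch_map, RCell.ch_lieT, RCell.ch_lieT]
    ext <;> simp
  rw [E.cell_nat, e1]
  congr 1

/-! ### the root coordinates -/

open Classical in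
/-- the root coordinates of an infinitesimal point -/
noncomputable def Zc (v : Pt R A (Eps B)) : idx → B :=
  if hv : IsKer v then (exists_lie E v hv).choose else 0

lemma exists_eq_lie {v : Pt R A (Eps B)} (hv : IsKer v) : ∃ h : M →+ B, v = lie E (Zc E v) h := by
  unfold Zc
  rw [dif_pos hv]
  exact (exists_lie E v hv).choose_spec

@[simp] lemma Zc_lie (z : idx → B) (h : M →+ B) : Zc E (lie E z h) = z := by
  obtain ⟨h', e⟩ := exists_eq_lie E (isKer_lie E z h)
  exact (lie_inj E e).1.symm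

lemma Zc_mul {v w : Pt R A (Eps B)} (hv : IsKer v) (hw : IsKer w) :
    Zc E (v * w) = Zc E v + Zc E w := by
  obtain ⟨h, e⟩ := exists_eq_lie E hv
  obtain ⟨h', e'⟩ := exists_eq_lie E hw
  conv_lhs => rw [e, e', ← lie_add]
  rw [Zc_lie]

lemma Zc_one : Zc E (1 : Pt R A (Eps B)) = 0 := by
  rw [← lie_zero E, Zc_lie]

lemma Zc_scale {v : Pt R A (Eps B)} (hv : IsKer v) (c : B) :
    Zc E (Pt.map (eScale R c) v) = fun a => c * Zc E v a := by
  obtain ⟨h, e⟩ := exists_eq_lie E hv
  conv_lhs => rw [e, lie_scale]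
  rw [Zc_lie]

lemma Zc_map (ψ : B →ₐ[R] C) {v : Pt R A (Eps B)} (hv : IsKer v) :
    Zc E (Pt.map (eMap ψ) v) = fun a => ψ (Zc E v a) := by
  obtain ⟨h, e⟩ := exists_eq_lie E hv
  conv_lhs => rw [e, lie_nat]
  rw [Zc_lie]

/-- the constant point -/
def cst (g : Pt R A B) : Pt R A (Eps B) := Pt.map (eInl R B) g

lemma cst_mul (g h : Pt R A B) : cst (g * h) = cst g * cst h := Pt.map_mul _ _ _
lemma cst_inv (g : Pt R A B) : cst g⁻¹ = (cst g)⁻¹ := Pt.map_inv _ _
lemma cst_one : cst (1 : Pt R A B) = 1 := Pt.map_one _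

lemma scale_cst (c : B) (g : Pt R A B) : Pt.map (eScale R c) (cst g) = cst g := by
  apply Pt.ext; intro f; ext <;> simp [cst]

lemma map_cst (ψ : B →ₐ[R] C) (g : Pt R A B) : Pt.map (eMap ψ) (cst g) = cst (Pt.map ψ g) := by
  rw [cst, Pt.map_map, eMap_comp_eInl]
  rfl

/-- the image of `u_d(ε)` under the adjoint action -/
noncomputable def adP (g : Pt R A B) (d : idx) : Pt R A (Eps B) :=
  cst g * E.uu d (Eps B) (inr 1) * (cst g)⁻¹

lemma isKer_adP (g : Pt R A B) (d : idx) : IsKer (adP E g d) := (isKer_uu E d 1).conj _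

lemma conj_uu (g : Pt R A B) (d : idx) (z : B) :
    cst g * E.uu d (Eps B) (inr z) * (cst g)⁻¹ = Pt.map (eScale R z) (adP E g d) := by
  rw [adP, Pt.map_mul, Pt.map_mul, Pt.map_inv, scale_cst, E.uu_nat]
  congr 3
  ext <;> simp

/-- **The positive block of the adjoint representation.** -/
noncomputable def ad (g : Pt R A B) : Matrix (PI b) (PI b) B :=
  Matrix.of fun c d => Zc E (adP E g d) c

lemma ad_apply (g : Pt R A B) (c d : PI b) : ad E g c d = Zc E (adP E g d) c := rfl

lemma ad_nat (ψ : B →ₐ[R] C) (g : Pt R A B) : ad E (Pt.map ψ g) = (ad E g).map ψ := by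
  refine Matrix.ext fun c d => ?_
  rw [Matrix.map_apply, ad_apply, ad_apply]
  have h1 : adP E (Pt.map ψ g) d = Pt.map (eMap ψ) (adP E g d) := by
    rw [adP, adP, Pt.map_mul, Pt.map_mul, Pt.map_inv, map_cst, E.uu_nat]
    congr 3
    ext <;> simp
  rw [h1, Zc_map E ψ (isKer_adP E g d)]

/-! ### Borel subgroups -/

variable (B) in
/-- the points of the opposite Borel subgroup -/
noncomputable def Bm : Subgroup (Pt R A B) where
  carrier := {g | ∃ u ∈ Um E B, ∃ t : TPt M B, g = u * E.i B t}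
  one_mem' := ⟨1, one_mem _, 1, by simp⟩
  mul_mem' := by
    rintro _ _ ⟨u, hu, t, rfl⟩ ⟨u', hu', t', rfl⟩
    refine ⟨u * (E.i B t * u' * (E.i B t)⁻¹), mul_mem hu (conj_i_mem_Um E t hu'), t * t', ?_⟩
    rw [map_mul]; group
  inv_mem' := by
    rintro _ ⟨u, hu, t, rfl⟩
    refine ⟨E.i B t⁻¹ * u⁻¹ * (E.i B t⁻¹)⁻¹, conj_i_mem_Um E t⁻¹ (inv_mem hu), t⁻¹, ?_⟩
    rw [i_inv]; group

lemma mem_Bm {g : Pt R A B} : g ∈ Bm E B ↔ ∃ u ∈ Um E B, ∃ t : TPt M B, g = u * E.i B t := Iff.rfl

lemma Um_le_Bm : Um E B ≤ Bm E B := fun u hu => ⟨u, hu, 1, by simp⟩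

lemma i_mem_Bm (t : TPt M B) : E.i B t ∈ Bm E B := ⟨1, one_mem _, t, by simp⟩

lemma map_negP (ψ : B →ₐ[R] C) (x : idx → B) : Pt.map ψ (negP E x) = negP E (fun a => ψ (x a)) := by
  rw [negP, negP, Pt.map_list_prod, List.map_map]
  congr 1
  apply List.map_congr_left
  intro c _
  simp [E.uu_nat]

lemma map_posP (ψ : B →ₐ[R] C) (x : idx → B) : Pt.map ψ (posP E x) = posP E (fun a => ψ (x a)) := by
  rw [posP, posP, Pt.map_list_prod, List.map_map]
  congr 1
  apply List.map_congr_left
  intro c _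
  simp [E.uu_nat]

lemma map_mem_Bm (ψ : B →ₐ[R] C) {g : Pt R A B} (hg : g ∈ Bm E B) : Pt.map ψ g ∈ Bm E C := by
  obtain ⟨_, ⟨x, rfl⟩, t, rfl⟩ := hg
  refine ⟨negP E (fun a => ψ (x a)), negP_mem_Um E _, TPt.map ψ t, ?_⟩
  rw [Pt.map_mul, map_negP, E.i_nat]

lemma map_mem_Bor (ψ : B →ₐ[R] C) {g : Pt R A B} (hg : g ∈ Bor E B) : Pt.map ψ g ∈ Bor E C := by
  obtain ⟨_, ⟨x, rfl⟩, t, rfl⟩ := hg
  refine ⟨posP E (fun a => ψ (x a)), posP_mem_Up E _, TPt.map ψ t, ?_⟩
  rw [Pt.map_mul, map_posP, E.i_nat]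

lemma map_mem_Up (ψ : B →ₐ[R] C) {g : Pt R A B} (hg : g ∈ Up E B) : Pt.map ψ g ∈ Up E C := by
  obtain ⟨x, rfl⟩ := hg
  rw [map_posP]
  exact posP_mem_Up E _

lemma map_mem_Um (ψ : B →ₐ[R] C) {g : Pt R A B} (hg : g ∈ Um E B) : Pt.map ψ g ∈ Um E C := by
  obtain ⟨x, rfl⟩ := hg
  rw [map_negP]
  exact negP_mem_Um E _

/-- the positive coordinates of an infinitesimal point of `B⁻` vanish -/
lemma Zc_of_mem_Bm {v : Pt R A (Eps B)} (hv : IsKer v) (h : v ∈ Bm E (Eps B)) {c : idx}
    (hc : b.IsPos c) : Zc E v c = 0 := by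
  classical
  obtain ⟨f, e⟩ := exists_eq_lie E hv
  obtain ⟨_, ⟨x, rfl⟩, t, h⟩ := h
  have h1 : negP E x * posP E 0 * E.i _ t =
      negP E (er (Zc E v)) * posP E (er (Zc E v)) * E.i _ (RCell.lieT f) := by
    rw [posP_zero, mul_one, ← h, ← cell_eq_mul]
    exact e
  have h2 := (join_inj E h1).2.1 c hc
  have h3 := congrArg snd h2
  exact h3.symm

/-- the nonpositive coordinates of an infinitesimal point of `U⁺` vanish -/
lemma eq_posP_of_mem_Up {v : Pt R A (Eps B)} (hv : IsKer v) (h : v ∈ Up E (Eps B)) :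
    v = posP E (er (Zc E v)) := by
  classical
  obtain ⟨f, e⟩ := exists_eq_lie E hv
  obtain ⟨x, h⟩ := h
  have h1 : negP E 0 * posP E x * E.i _ 1 =
      negP E (er (Zc E v)) * posP E (er (Zc E v)) * E.i _ (RCell.lieT f) := by
    rw [negP_zero, one_mul, map_one, mul_one, ← h, ← cell_eq_mul]
    exact e
  have h2 := (join_inj E h1).2.1
  rw [h]
  apply posP_congr
  intro a ha
  rw [← h]
  exact h2 a ha

/-- the adjoint action on an infinitesimal point of `U⁺` -/
lemma Zc_conj_posP (g : Pt R A B) (z : idx → B) (c : PI b) :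
    Zc E (cst g * posP E (er z) * (cst g)⁻¹) c = ∑ d : PI b, ad E g c d * z d := by
  classical
  have key : ∀ L : List idx, Zc E (cst g * (L.map (fun a => E.uu a (Eps B) (er z a))).prod * (cst g)⁻¹) c =
      (L.map fun d => Zc E (adP E g d) c * z d).sum := by
    intro L
    induction L with
    | nil =>
      rw [List.map_nil, List.prod_nil, mul_one, mul_inv_cancel, Zc_one]
      rfl
    | cons a l ih =>
      rw [List.map_cons, List.prod_cons, List.map_cons, List.sum_cons, ← ih]
      have h1 : cst g * (E.uu a (Eps B) (er z a) * (l.map (fun a => E.uu a (Eps B) (er z a))).prod) *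
          (cst g)⁻¹ = (cst g * E.uu a (Eps B) (er z a) * (cst g)⁻¹) *
          (cst g * (l.map (fun a => E.uu a (Eps B) (er z a))).prod * (cst g)⁻¹) := by group
      have k1 : IsKer (cst g * E.uu a (Eps B) (er z a) * (cst g)⁻¹) := (isKer_uu E a (z a)).conj _
      rw [h1, Zc_mul E k1 ((isKer_prod E l z).conj _), Pi.add_apply]
      congr 1
      have h2 : cst g * E.uu a (Eps B) (er z a) * (cst g)⁻¹ = Pt.map (eScale R (z a)) (adP E g a) :=
        conj_uu E g a (z a)
      rw [h2, Zc_scale E (isKer_adP E g a), mul_comm]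
  rw [posP, key]
  have h3 : ((posList b).map fun d => Zc E (adP E g d) c * z d).sum =
      ∑ d ∈ (Finset.univ.filter fun a => b.IsPos a), Zc E (adP E g d) c * z d := by
    rw [← List.sum_toFinset _ (posList_nodup b)]
    apply Finset.sum_congr _ fun _ _ => rfl
    ext a
    rw [List.mem_toFinset, mem_posList]
    simp
  rw [h3, Finset.sum_filter]
  have h4 : ∑ d : PI b, ad E g c d * z d = ∑ d ∈ (Finset.univ.filter fun a => b.IsPos a),
      Zc E (adP E g d) c * z d := by
    rw [← Finset.sum_subtype_eq_sum_filter]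
    rw [← Finset.sum_subset (Finset.subset_univ _) (by
      intro d _ hd
      exfalso
      apply hd
      rw [Finset.mem_subtype]
      exact Finset.mem_univ _)]
    rfl
  rw [h4, Finset.sum_filter]

lemma ad_mul_bor (g : Pt R A B) {h : Pt R A B} (hh : h ∈ Bor E B) : ad E (g * h) = ad E g * ad E h := by
  refine Matrix.ext fun c d => ?_
  rw [Matrix.mul_apply, ad_apply]
  have h1 : adP E (g * h) d = cst g * adP E h d * (cst g)⁻¹ := by
    rw [adP, adP, cst_mul]; group
  have h2 : adP E h d ∈ Up E (Eps B) := by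
    have h3 := map_mem_Bor E (eInl R B) hh
    obtain ⟨u, hu, t, ht⟩ := h3
    have h4 : adP E h d = u * (E.i _ t * E.uu d (Eps B) (inr 1) * (E.i _ t)⁻¹) * u⁻¹ := by
      rw [adP, cst, ht]; group
    rw [h4, E.rel]
    exact mul_mem (mul_mem hu (uu_mem_Up E d.2 _)) (inv_mem hu)
  rw [h1, eq_posP_of_mem_Up E (isKer_adP E h d) h2, Zc_conj_posP]
  rfl

lemma ad_bm_mul {g : Pt R A B} (hg : g ∈ Bm E B) (h : Pt R A B) : ad E (g * h) = ad E g * ad E h := by
  refine Matrix.ext fun c d => ?_
  rw [Matrix.mul_apply, ad_apply]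
  have h1 : adP E (g * h) d = cst g * adP E h d * (cst g)⁻¹ := by
    rw [adP, adP, cst_mul]; group
  obtain ⟨f, e⟩ := exists_eq_lie E (isKer_adP E h d)
  set z := Zc E (adP E h d) with hz
  have h2 : lie E z f = negP E (er z) * posP E (er z) * E.i _ (RCell.lieT f) := cell_eq_mul E _ _
  have h3 : cst g * adP E h d * (cst g)⁻¹ = (cst g * negP E (er z) * (cst g)⁻¹) *
      (cst g * posP E (er z) * (cst g)⁻¹) * (cst g * E.i _ (RCell.lieT f) * (cst g)⁻¹) := by
    rw [e, h2]; group
  have hgm : cst g ∈ Bm E (Eps B) := map_mem_Bm E _ hg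
  have k1 : IsKer (cst g * negP E (er z) * (cst g)⁻¹) := (isKer_prod E _ z).conj _
  have k2 : IsKer (cst g * posP E (er z) * (cst g)⁻¹) := (isKer_prod E _ z).conj _
  have k3 : IsKer (cst g * E.i _ (RCell.lieT f) * (cst g)⁻¹) := (isKer_i E f).conj _
  rw [h1, h3, Zc_mul E (k1.mul k2) k3, Zc_mul E k1 k2, Pi.add_apply, Pi.add_apply,
    Zc_of_mem_Bm E k1 (mul_mem (mul_mem hgm (Um_le_Bm E (negP_mem_Um E _))) (inv_mem hgm)) c.2,
    Zc_of_mem_Bm E k3 (mul_mem (mul_mem hgm (i_mem_Bm E _)) (inv_mem hgm)) c.2, zero_add, add_zero,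
    Zc_conj_posP]
  rfl

open Classical in
lemma ad_one : ad E (1 : Pt R A B) = 1 := by
  refine Matrix.ext fun c d => ?_
  have h1 : adP E (1 : Pt R A B) d = E.uu d (Eps B) (inr 1) := by
    rw [adP, cst_one]; group
  have h2 : E.uu d (Eps B) (inr 1) = lie E (Pi.single (d : idx) (1 : B)) 0 := by
    rw [lie, RCell.lieT_zero, cell_eq_mul, map_one, mul_one]
    have h3 : er (Pi.single (d : idx) (1 : B)) = Pi.single (d : idx) (inr 1 : Eps B) := by
      funext a
      by_cases had : a = d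
      · subst had; simp [er]
      · rw [Pi.single_eq_of_ne had, er, Pi.single_eq_of_ne had, inr_zero]
    rw [h3, posP_single E d.2]
    have h4 : negP E (Pi.single (d : idx) (inr 1 : Eps B)) = 1 := by
      rw [← negP_zero E]
      apply negP_congr
      intro a ha
      have had : a ≠ d := fun h => ha (h ▸ d.2)
      rw [Pi.single_eq_of_ne had]
      rfl
    rw [h4, one_mul]
  rw [ad_apply, h1, h2, Zc_lie, Matrix.one_apply]
  by_cases hcd : c = d
  · subst hcd; simp
  · rw [if_neg hcd, Pi.single_eq_of_ne]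
    exact fun h => hcd (Subtype.ext h)

end lie

end K702.Hab
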