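import Mathlib.LinearAlgebra.Matrix.Nondegenerate
import Mathlib.LinearAlgebra.Matrix.NonsingularInverse
import Mathlib.LinearAlgebra.Dimension.Constructions
import Mathlib.LinearAlgebra.LinearIndependent.Lemmas
import Mathlib.LinearAlgebra.Matrix.ToLin
import Mathlib.LinearAlgebra.Matrix.Rank
import Mathlib.LinearAlgebra.FiniteDimensional.Lemmas
import Mathlib.Algebra.MvPolynomial.Funext
import Mathlib.Algebra.MvPolynomial.Equiv

/-!
# Points at which a determinant does not vanish

* `exists_points`: linearly independent functions `f l` admit points with `det (f l (y m)) ≠ 0`;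
* `exists_points₂`: a kernel `P` whose span of sections contains a linearly independent family `φ` indexed by `ι`
  has points with `det (P (x l) (y m)) ≠ 0`;
* `coeff_mem_span`: the coefficients of a polynomial function are in the span of its values.
-/

set_option autoImplicit false

namespace K702.Hab

open MvPolynomial

section LA

variable {ι X Y K : Type*} [Field K] [Fintype ι] [DecidableEq ι]

theorem exists_points (f : ι → Y → K) (hf : LinearIndependent K f) :
    ∃ y : ι → Y, (Matrix.of fun l m => f l (y m)).det ≠ 0 := by
  classical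
  let v : Y → (ι → K) := fun y l => f l y
  have hspan : Submodule.span K (Set.range v) = ⊤ := by
    by_contra hne
    obtain ⟨θ, hθ, hle⟩ := Submodule.exists_le_ker_of_lt_top _ (lt_top_iff_ne_top.2 hne)
    apply hθ
    have h1 : ∑ l, θ (Pi.single l 1) • f l = 0 := by
      funext y
      rw [Finset.sum_apply]
      have h2 : θ (v y) = 0 := hle (Submodule.subset_span ⟨y, rfl⟩)
      have h3 : v y = ∑ l, f l y • (Pi.single l 1 : ι → K) := by
        funext l
        rw [Finset.sum_apply]
        simp only [Pi.smul_apply, smul_eq_mul]
        rw [Finset.sum_eq_single l]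
        · rw [Pi.single_eq_same, mul_one]
        · intro m _ hm
          rw [Pi.single_eq_of_ne (Ne.symm hm), mul_zero]
        · intro h; exact absurd (Finset.mem_univ _) h
      rw [h3, map_sum] at h2
      simp only [Pi.smul_apply, smul_eq_mul, Pi.zero_apply]
      rw [← h2]
      exact Finset.sum_congr rfl fun l _ => by rw [map_smul, smul_eq_mul, mul_comm]
    have h4 := (Fintype.linearIndependent_iff.1 hf) _ h1
    apply LinearMap.pi_ext'
    intro l
    ext
    simpa using h4 l
  obtain ⟨κ, a, ha, hsp, hli⟩ := exists_linearIndependent' K v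
  rw [hspan] at hsp
  let B : Module.Basis κ K (ι → K) := Module.Basis.mk hli hsp.ge
  have hfin : Finite κ := Module.Finite.finite_basis B
  have hft : Fintype κ := Fintype.ofFinite κ
  have hcard : Fintype.card κ = Fintype.card ι := by
    rw [← Module.finrank_eq_card_basis B, Module.finrank_fintype_fun_eq_card]
  let e : ι ≃ κ := Fintype.equivOfCardEq hcard.symm
  refine ⟨fun m => a (e m), ?_⟩
  have h1 : LinearIndependent K (fun m => v (a (e m))) := hli.comp e e.injective
  have h2 : IsUnit (Matrix.of fun m l => f l (a (e m))) :=
    Matrix.linearIndependent_rows_iff_isUnit.1 h1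
  have h3 := (Matrix.isUnit_iff_isUnit_det _).1 h2
  rw [← Matrix.det_transpose]
  exact h3.ne_zero

theorem exists_points₂ (P : X → Y → K) (φ : ι → Y → K) (hφ : LinearIndependent K φ)
    (hmem : ∀ e, φ e ∈ Submodule.span K (Set.range P)) :
    ∃ (x : ι → X) (y : ι → Y), (Matrix.of fun l m => P (x l) (y m)).det ≠ 0 := by
  classical
  obtain ⟨κ, a, ha, hsp, hli⟩ := exists_linearIndependent' K P
  -- an embedding of `ι` in `κ`
  obtain ⟨j⟩ : Nonempty (ι ↪ κ) := by
    by_cases hfin : Finite κ
    · have hft : Fintype κ := Fintype.ofFinite κ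
      apply Function.Embedding.nonempty_of_card_le
      let W := Submodule.span K (Set.range P)
      have hW : Module.Finite K W := by
        rw [Module.Finite.iff_fg]
        exact ⟨Finset.univ.image (P ∘ a), by rw [Finset.coe_image, Finset.coe_univ, Set.image_univ, hsp]⟩
      let φ' : ι → W := fun e => ⟨φ e, hmem e⟩
      have h1 : LinearIndependent K φ' :=
        LinearIndependent.of_comp W.subtype (by simpa [Function.comp_def, φ'] using hφ)
      have h2 := h1.fintype_card_le_finrank
      have h3 : Module.finrank K W ≤ Fintype.card κ := by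
        have h4 : W = Submodule.span K (Set.range (P ∘ a)) := hsp.symm
        rw [h4]
        exact finrank_range_le_card (P ∘ a)
      exact h2.trans h3
    · have : Infinite κ := not_finite_iff_infinite.1 hfin
      exact ⟨(Fintype.equivFin ι).toEmbedding.trans (Fin.valEmbedding.trans (Infinite.natEmbedding κ))⟩
  have h1 : LinearIndependent K (fun l => P (a (j l))) := hli.comp j j.injective
  obtain ⟨y, hy⟩ := exists_points _ h1
  exact ⟨fun l => a (j l), y, hy⟩

end LA

section coeff

variable {σ : Type*} {Y K : Type*} [Field K] [Infinite K]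

/-- Coefficients of a function polynomial in `x` are in the span of the values. -/
theorem coeff_mem_span (P : (σ → K) → Y → K) (Q : Y → MvPolynomial σ K)
    (hPQ : ∀ x y, P x y = eval x (Q y)) (S : Finset (σ →₀ ℕ)) (hS : ∀ y, (Q y).support ⊆ S)
    (e : σ →₀ ℕ) : (fun y => coeff e (Q y)) ∈ Submodule.span K (Set.range P) := by
  classical
  by_contra hne
  obtain ⟨θ, hθ, hle⟩ := Submodule.exists_le_ker_of_notMem hne
  apply hθ
  let c : (σ →₀ ℕ) → Y → K := fun e y => coeff e (Q y)
  let p : MvPolynomial σ K := ∑ e ∈ S, monomial e (θ (c e))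
  have hP : ∀ x, P x = ∑ e ∈ S, (e.prod fun i k => x i ^ k) • c e := by
    intro x
    funext y
    rw [hPQ, Finset.sum_apply, eval_eq]
    refine (Finset.sum_subset (hS y) ?_).trans ?_
    · intro d _ hd
      rw [notMem_support_iff.1 hd, zero_mul]
    · refine Finset.sum_congr rfl fun d _ => ?_
      rw [Pi.smul_apply, smul_eq_mul, mul_comm]
      rfl
  have hp : p = 0 := by
    apply MvPolynomial.funext
    intro x
    have h1 : θ (P x) = 0 := hle (Submodule.subset_span ⟨x, rfl⟩)
    rw [hP, map_sum] at h1
    rw [map_zero, ← h1, map_sum]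
    refine Finset.sum_congr rfl fun d _ => ?_
    rw [eval_monomial, map_smul, smul_eq_mul, mul_comm]
  by_cases he : e ∈ S
  · have h1 : coeff e p = θ (c e) := by
      rw [coeff_sum, Finset.sum_eq_single e]
      · rw [coeff_monomial, if_pos rfl]
      · intro d _ hd
        rw [coeff_monomial, if_neg hd]
      · intro h; exact absurd he h
    rw [hp, coeff_zero] at h1
    exact h1.symm
  · have h1 : (fun y => coeff e (Q y)) = 0 := by
      funext y
      exact notMem_support_iff.1 fun h => he (hS y h)
    rw [h1, map_zero]

end coeff

end K702.Hab
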