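import Groth.Agent.AGF.K702.Bound
import Groth.Agent.RedSub.H368.Split

/-!
# The longest element and the weight `ρ`
-/

set_option autoImplicit false
set_option linter.unusedSectionVars false
universe u

namespace K702.Hab

open Groth.Agent.Sga3B Groth.Agent.Sga3B.Cell Groth.Agent.Sga3B.Word Groth.Agent.Sga3B.MT
open Groth.Agent.RedSub.H638.WeylBase Groth.Agent.RedSub.H638.WeylCover
open Groth.Agent.RedSub.H662 Panel PosPt Homog Step
open Groth.Agent.RedSub.H368.Split (sT ch_sT sT_eq)

variable {idx M : Type} [Fintype idx] [AddCommGroup M] [Module.Free ℤ M]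
    [Module.Finite ℤ M] {P : RootPairing idx ℤ M (Module.Dual ℤ M)} {b : P.Base}

/-- a longest reduced word -/
theorem exists_red_longest (b : P.Base) : ∃ l : List idx, Red b l ∧
    ∀ c, b.IsPos c → ¬ b.IsPos ((wp P l).symm c) := by
  classical
  obtain ⟨l, hl, hmax⟩ : ∃ l : List idx, Red b l ∧
      ∀ l' : List idx, Red b l' → (inver b l').card ≤ (inver b l).card := by
    by_contra hcon
    push Not at hcon
    have key : ∀ n : ℕ, ∃ l : List idx, Red b l ∧ n ≤ (inver b l).card := by
      intro n
      induction n with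
      | zero => exact ⟨[], trivial, Nat.zero_le _⟩
      | succ n ih =>
        obtain ⟨l, hl, hn⟩ := ih
        obtain ⟨l', hl', h⟩ := hcon l hl
        exact ⟨l', hl', by omega⟩
    obtain ⟨l, -, h⟩ := key (Fintype.card idx + 1)
    have h1 : (inver b l).card ≤ Fintype.card idx := Finset.card_le_univ _
    omega
  refine ⟨l, hl, ?_⟩
  have hsimple : ∀ a ∈ b.support, ¬ b.IsPos ((wp P l).symm a) := by
    intro a ha hpos
    have h1 : wp P (a :: a :: l) = wp P l := by
      rw [wp_cons, wp_cons, ← mul_assoc]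
      have h2 : P.reflectionPerm a * P.reflectionPerm a = 1 := by
        ext c
        exact refl_refl a c
      rw [h2, one_mul]
    have h2 : (inver b (a :: a :: l)).card < (inver b (a :: l)).card := by
      apply card_inver_lt ha
      rw [wp_cons_symm, wp_symm_neg, isPos_neg_iff, not_not]
      exact hpos
    have h3 : inver b (a :: a :: l) = inver b l := by
      ext c
      rw [mem_inver, mem_inver, h1]
    rw [h3] at h2
    have h4 := hmax (a :: l) ⟨ha, hpos, hl⟩
    omega
  intro c hc hpos
  -- some simple root would be made positive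
  have hroot : ∀ (l : List idx), ∃ w : M →ₗ[ℤ] M, ∀ c, P.root ((wp P l).symm c) = w (P.root c) := by
    intro l
    induction l with
    | nil => exact ⟨LinearMap.id, fun c => rfl⟩
    | cons a l ih =>
      obtain ⟨w, hw⟩ := ih
      refine ⟨w.comp (P.reflection a).toLinearMap, fun c => ?_⟩
      rw [wp_cons_symm, hw, P.root_reflectionPerm]
      rfl
  obtain ⟨w, hw⟩ := hroot l
  obtain ⟨lam, n, hn, hlam⟩ := PinComb.exists_height_functional b
  obtain ⟨f, hf0, hf1, hf2⟩ := b.exists_root_eq_sum_int c
  have hfpos : 0 < f := by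
    refine hf1.resolve_right fun h => ?_
    rw [RootPairing.Base.isPos_iff, RootPairing.Base.height_eq_sum hf2] at hc
    exact absurd hc (not_lt.mpr (Finset.sum_nonpos fun j _ => h.le j))
  have h1 : lam (P.root ((wp P l).symm c)) = ∑ j ∈ b.support, f j * lam (P.root ((wp P l).symm j)) := by
    rw [hw, hf2, map_sum, map_sum]
    refine Finset.sum_congr rfl fun j _ => ?_
    rw [map_zsmul, map_zsmul, ← hw, smul_eq_mul]
  have h2 : lam (P.root ((wp P l).symm c)) ≤ 0 := by
    rw [h1]
    refine Finset.sum_nonpos fun j hj => mul_nonpos_of_nonneg_of_nonpos (hfpos.le j) ?_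
    rw [hlam]
    refine mul_nonpos_of_nonneg_of_nonpos hn.le ?_
    by_contra hcon
    exact hsimple j hj ((RootPairing.Base.isPos_iff _).2 (not_le.1 hcon))
  rw [hlam] at h2
  have h3 := (RootPairing.Base.isPos_iff _).1 hpos
  nlinarith

lemma isPos_of_neg {l : List idx} (h : ∀ c, b.IsPos c → ¬ b.IsPos ((wp P l).symm c)) {c : idx}
    (hc : ¬ b.IsPos c) : b.IsPos (wp P l c) := by
  by_contra hneg
  have h1 := h (P.reflectionPerm (wp P l c) (wp P l c)) (isPos_neg_iff.2 hneg)
  rw [wp_symm_neg, Equiv.symm_apply_apply, isPos_neg_iff, not_not] at h1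
  exact hc h1

/-- the action of words on characters -/
def wl (P : RootPairing idx ℤ M (Module.Dual ℤ M)) : List idx → M →ₗ[ℤ] M
  | [] => LinearMap.id
  | a :: l => (wl P l).comp (P.reflection a).toLinearMap

lemma wl_root (l : List idx) (c : idx) : wl P l (P.root c) = P.root ((wp P l).symm c) := by
  induction l generalizing c with
  | nil => rfl
  | cons a l ih =>
    rw [wp_cons_symm, ← ih, P.root_reflectionPerm]
    rfl

/-- the inverse action of words on characters -/
def wl' (P : RootPairing idx ℤ M (Module.Dual ℤ M)) : List idx → M →ₗ[ℤ] M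
  | [] => LinearMap.id
  | a :: l => (P.reflection a).toLinearMap.comp (wl' P l)

lemma wl'_wl (l : List idx) (m : M) : wl' P l (wl P l m) = m := by
  induction l generalizing m with
  | nil => rfl
  | cons a l ih =>
    change P.reflection a (wl' P l (wl P l (P.reflection a m))) = m
    rw [ih]
    exact P.reflection_same a m

open Classical in
/-- the longest element maps `2ρ` to `-2ρ` -/
lemma wl_tworho {l : List idx} (h : ∀ c, b.IsPos c → ¬ b.IsPos ((wp P l).symm c)) :
    wl P l (tworho b) = - tworho b := by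
  unfold tworho
  rw [map_sum]
  let σ : PI b → PI b := fun c => ⟨P.reflectionPerm ((wp P l).symm c) ((wp P l).symm c),
    isPos_neg_iff.2 (h c c.2)⟩
  have hσ : Function.Injective σ := by
    intro c d hcd
    have h1 : P.reflectionPerm ((wp P l).symm c) ((wp P l).symm c) =
        P.reflectionPerm ((wp P l).symm d) ((wp P l).symm d) := congrArg Subtype.val hcd
    rw [← wp_symm_neg, ← wp_symm_neg] at h1
    have h2 := (wp P l).symm.injective h1
    apply Subtype.ext
    have h3 := congrArg P.root h2
    rw [root_neg, root_neg] at h3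
    exact P.root.injective (neg_injective h3)
  have h2 : ∀ c : PI b, wl P l (P.root c) = - P.root (σ c) := by
    intro c
    rw [wl_root]
    change _ = - P.root (P.reflectionPerm ((wp P l).symm c) ((wp P l).symm c))
    rw [root_neg, neg_neg]
  rw [Finset.sum_congr rfl fun c _ => h2 c, Finset.sum_neg_distrib]
  congr 1
  exact Function.Bijective.sum_comp (Finite.injective_iff_bijective.1 hσ) fun c : PI b => P.root c

lemma wl'_tworho {l : List idx} (h : ∀ c, b.IsPos c → ¬ b.IsPos ((wp P l).symm c)) :
    wl' P l (tworho b) = - tworho b := by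
  have h1 := wl'_wl (P := P) l (tworho b)
  rw [wl_tworho h, map_neg] at h1
  rw [← h1, neg_neg]
  rw [h1]

lemma eq_of_add_self {m m' : M} (h : m + m = m' + m') : m = m' := by
  have h1 : (2 : ℤ) • (m - m') = 0 := by
    rw [two_smul]
    have : m - m' + (m - m') = (m + m) - (m' + m') := by abel
    rw [this, h, sub_self]
  exact sub_eq_zero.1 ((smul_eq_zero.1 h1).resolve_left two_ne_zero)

lemma wl_neg_of_root {ρ : M} (hρ : ρ + ρ = tworho b) {l : List idx}
    (h : ∀ c, b.IsPos c → ¬ b.IsPos ((wp P l).symm c)) : wl P l ρ = -ρ := by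
  apply eq_of_add_self
  rw [← map_add, hρ, wl_tworho h, ← hρ]
  abel

lemma wl'_neg_of_root {ρ : M} (hρ : ρ + ρ = tworho b) {l : List idx}
    (h : ∀ c, b.IsPos c → ¬ b.IsPos ((wp P l).symm c)) : wl' P l ρ = -ρ := by
  apply eq_of_add_self
  rw [← map_add, hρ, wl'_tworho h, ← hρ]
  abel

section pin

variable {K A : Type u} [Field K] [CommRing A] [Algebra K A] [PtGrp K A]
    (E : PinCell P b K A)

include E in
lemma reflection_eq (a : idx) (m : M) : P.reflection a m = m - (P.coroot a m) • P.root a := by
  rw [RootPairing.reflection_apply]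
  congr 2
  change P.toLinearMap m (P.coroot a) = _
  rw [E.pairing_eq]
  rfl

open Classical in
include E in
/-- `⟨2ρ, γ^∨⟩ = 2` -/
lemma coroot_tworho {γ : idx} (hγ : γ ∈ b.support) : P.coroot γ (tworho b) = 2 := by
  have h1 : P.reflection γ (tworho b) = tworho b - (2 : ℤ) • P.root γ := by
    unfold tworho
    rw [map_sum]
    let σ : PI b → PI b := fun c => if h : (c : idx) = γ then c else
      ⟨P.reflectionPerm γ c, isPos_refl hγ c.2 h⟩
    have hσ2 : ∀ c, σ (σ c) = c := by
      intro c
      by_cases hc : (c : idx) = γ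
      · have h1 : σ c = c := dif_pos hc
        rw [h1, h1]
      · have h1 : σ c = ⟨P.reflectionPerm γ c, isPos_refl hγ c.2 hc⟩ := dif_neg hc
        have h2 : ((σ c : PI b) : idx) ≠ γ := by
          rw [h1]
          intro h3
          change P.reflectionPerm γ c = γ at h3
          have h4 : (c : idx) = P.reflectionPerm γ γ := by
            have := refl_refl (P := P) γ (c : idx)
            rw [h3] at this
            exact this.symm
          exact not_isPos_neg hγ (h4 ▸ c.2)
        have h3 : σ (σ c) = ⟨P.reflectionPerm γ (σ c), isPos_refl hγ (σ c).2 h2⟩ := dif_neg h2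
        rw [h3]
        apply Subtype.ext
        change P.reflectionPerm γ (σ c) = c
        rw [h1]
        exact refl_refl γ c
    let γ' : PI b := ⟨γ, RootPairing.Base.isPos_of_mem_support hγ⟩
    have h2 : ∀ c : PI b, P.reflection γ (P.root c) = P.root (σ c) - (if c = γ' then (2 : ℤ) • P.root γ else 0) := by
      intro c
      by_cases hc : c = γ'
      · subst hc
        rw [if_pos rfl]
        have h3 : σ γ' = γ' := dif_pos rfl
        rw [h3]
        change P.reflection γ (P.root γ) = P.root γ - (2 : ℤ) • P.root γ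
        rw [RootPairing.reflection_apply_self, two_smul]
        abel
      · rw [if_neg hc, sub_zero]
        have h3 : (c : idx) ≠ γ := fun h => hc (Subtype.ext h)
        have h4 : σ c = ⟨P.reflectionPerm γ c, isPos_refl hγ c.2 h3⟩ := dif_neg h3
        rw [h4]
        exact (P.root_reflectionPerm γ c).symm
    rw [Finset.sum_congr rfl fun c _ => h2 c, Finset.sum_sub_distrib, Finset.sum_ite_eq' Finset.univ γ',
      if_pos (Finset.mem_univ _)]
    congr 1
    exact Function.Bijective.sum_comp (Function.Involutive.bijective hσ2) fun c : PI b => P.root c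
  rw [reflection_eq E] at h1
  have h2 : ((P.coroot γ) (tworho b) - 2) • P.root γ = 0 := by
    rw [sub_smul]
    have h3 : (P.coroot γ) (tworho b) • P.root γ = (2 : ℤ) • P.root γ := by
      have := sub_right_injective h1
      exact this
    rw [h3, sub_self]
  exact sub_eq_zero.1 ((smul_eq_zero.1 h2).resolve_right (P.ne_zero γ))

include E in
lemma coroot_root_one {ρ : M} (hρ : ρ + ρ = tworho b) {γ : idx} (hγ : γ ∈ b.support) :
    P.coroot γ ρ = 1 := by
  have h1 := coroot_tworho E hγ
  rw [← hρ, map_add] at h1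
  omega

/-- conjugation of torus points by words -/
lemma conj_i_wl {l : List idx} (hl : ∀ a ∈ l, a ∈ b.support) (t : TPt M K) :
    ∃ t' : TPt M K, nw E K l * E.i K t * (nw E K l)⁻¹ = E.i K t' ∧
      ∀ m, TPt.ch m t' = TPt.ch (wl P l m) t := by
  induction l with
  | nil => exact ⟨t, by simp, fun m => rfl⟩
  | cons a l ih =>
    obtain ⟨t', ht', hm⟩ := ih (fun c hc => hl c (List.mem_cons_of_mem _ hc))
    refine ⟨sT P a t', ?_, fun m => ?_⟩
    · rw [← sT_eq E, ← nn_conj_i E (hl a List.mem_cons_self), ← ht', nw_cons]; group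
    · rw [ch_sT, hm]
      rfl

/-- inverse conjugation of torus points by words -/
lemma conj_i_wl' {l : List idx} (hl : ∀ a ∈ l, a ∈ b.support) (t : TPt M K) :
    ∃ t' : TPt M K, (nw E K l)⁻¹ * E.i K t * nw E K l = E.i K t' ∧
      ∀ m, TPt.ch m t' = TPt.ch (wl' P l m) t := by
  induction l generalizing t with
  | nil => exact ⟨t, by simp, fun m => rfl⟩
  | cons a l ih =>
    obtain ⟨t', ht', hm⟩ := ih (fun c hc => hl c (List.mem_cons_of_mem _ hc)) (sT P a t)
    refine ⟨t', ?_, fun m => ?_⟩
    · rw [← ht', ← sT_eq E, ← nn_inv_conj_i E (hl a List.mem_cons_self), nw_cons]; group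
    · rw [hm, ch_sT]
      rfl

lemma conj_um_mem_up {l : List idx} (hl : ∀ a ∈ l, a ∈ b.support)
    (h : ∀ c, b.IsPos c → ¬ b.IsPos ((wp P l).symm c)) {u : Pt K A K} (hu : u ∈ Um E K) :
    nw E K l * u * (nw E K l)⁻¹ ∈ Up E K := by
  have h1 : Um E K ≤ (Up E K).comap (MulAut.conj (nw E K l)).toMonoidHom := by
    apply Um_le
    intro c hc x
    rw [Subgroup.mem_comap]
    obtain ⟨r, hr⟩ := conj_nw E hl c
    change nw E K l * E.uu c K x * (nw E K l)⁻¹ ∈ _
    rw [hr]
    exact uu_mem_Up E (isPos_of_neg h hc) _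
  exact h1 hu

lemma conj_up_mem_um {l : List idx} (hl : ∀ a ∈ l, a ∈ b.support)
    (h : ∀ c, b.IsPos c → ¬ b.IsPos ((wp P l).symm c)) {u : Pt K A K} (hu : u ∈ Up E K) :
    (nw E K l)⁻¹ * u * nw E K l ∈ Um E K := by
  have h1 : Up E K ≤ (Um E K).comap (MulAut.conj (nw E K l)⁻¹).toMonoidHom := by
    apply Up_le
    intro c hc x
    rw [Subgroup.mem_comap]
    obtain ⟨r, hr⟩ := conj_nw_inv E hl c
    have h2 : (MulAut.conj (nw E K l)⁻¹).toMonoidHom (E.uu c K x) =
        (nw E K l)⁻¹ * E.uu c K x * nw E K l := by simp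
    rw [h2, hr]
    exact uu_mem_Um E (h c hc) _
  have h3 := h1 hu
  rw [Subgroup.mem_comap] at h3
  simpa using h3

/-- `F2` embeds in `F1` -/
theorem finrank_F2_le [IsAlgClosed K] [IsDomain A] {lam : M} {l : List idx} (hl : ∀ a ∈ l, a ∈ b.support)
    (h : ∀ c, b.IsPos c → ¬ b.IsPos ((wp P l).symm c)) (hlam : wl P l lam = -lam)
    [Module.Finite K (F1 E lam)] : Module.Finite K (F2 E lam) ∧
      Module.finrank K (F2 E lam) ≤ Module.finrank K (F1 E lam) := by
  let n := nw E K l
  have hmem : ∀ a ∈ F2 E lam, ltr n (invr K a) ∈ F1 E lam := by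
    intro a ha u hu t g
    rw [hom_ltr, hom_ltr, hom_invr, hom_invr]
    obtain ⟨t', ht', hm⟩ := conj_i_wl E hl t⁻¹
    have h1 : (n * (u * E.i K t * g))⁻¹ = (n * g)⁻¹ * E.i K t' * (n * u⁻¹ * n⁻¹) := by
      rw [← ht', i_inv]
      change (n * (u * E.i K t * g))⁻¹ = (n * g)⁻¹ * (n * (E.i K t)⁻¹ * n⁻¹) * (n * u⁻¹ * n⁻¹)
      group
    rw [h1, ha _ (conj_um_mem_up E hl h (inv_mem hu)), hm, hlam]
    congr 1
    have h2 : TPt.ch (-lam) t⁻¹ = TPt.ch lam t := by
      simp [TPt.ch, ofAdd_neg]
    exact h2
  let θ : F2 E lam →ₗ[K] F1 E lam :=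
    { toFun := fun a => ⟨ltr n (invr K (a : A)), hmem a a.2⟩
      map_add' := fun a a' => by apply Subtype.ext; simp
      map_smul' := fun c a => by apply Subtype.ext; simp }
  have hθ : Function.Injective θ := by
    rw [← LinearMap.ker_eq_bot, LinearMap.ker_eq_bot']
    intro a ha
    apply Subtype.ext
    apply eq_of_hom E
    intro g
    have h1 : ltr n (invr K (a : A)) = 0 := congrArg Subtype.val ha
    have h2 := congrArg (n⁻¹ * g⁻¹ : Pt K A K).hom h1
    rw [hom_ltr, hom_invr, mul_inv_cancel_left, inv_inv, map_zero] at h2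
    rw [h2]
    exact (map_zero _).symm
  have hfin : Module.Finite K (F2 E lam) := Module.Finite.of_injective θ hθ
  exact ⟨hfin, LinearMap.finrank_le_finrank_of_injective hθ⟩

end pin

end K702.Hab
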