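import Groth.Agent.AGF.K702.Semi
import Groth.Agent.AGF.K702.FrobDet
import Mathlib.RingTheory.MvPolynomial.WeightedHomogeneous

/-!
# The multiplication law of `U⁺` and its weights
-/

set_option autoImplicit false
set_option linter.unusedSectionVars false
universe u

namespace K702.Hab

open Groth.Agent.Sga3B Groth.Agent.Sga3B.Cell Groth.Agent.Sga3B.Word Groth.Agent.Sga3B.MT
open Groth.Agent.RedSub.H638.WeylBase Groth.Agent.RedSub.H638.WeylCover
open Groth.Agent.RedSub.H662 Panel PosPt Homog
open MvPolynomial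

section poly

variable {τ σ K : Type*} [Field K]

lemma eval_aeval (x : τ → K) (g : σ → MvPolynomial τ K) (f : MvPolynomial σ K) :
    eval x (aeval g f) = eval (fun i => eval x (g i)) f := by
  have h1 := comp_aeval_apply (R := K) (f := g) (aeval (R := K) x) f
  simpa only [aeval_eq_eval, coe_aeval_eq_eval] using h1

lemma coeff_aeval_scale [Fintype τ] (w : τ → ℕ) (v : K) (f : MvPolynomial τ K) (m : τ →₀ ℕ) :
    coeff m (aeval (fun i => C (v ^ w i) * X i : τ → MvPolynomial τ K) f) =
      v ^ (Finsupp.weight w m) * coeff m f := by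
  classical
  induction f using MvPolynomial.induction_on' with
  | add p q hp hq => rw [map_add, coeff_add, coeff_add, hp, hq, mul_add]
  | monomial m' a =>
    have h1 : aeval (fun i => C (v ^ w i) * X i : τ → MvPolynomial τ K) (monomial m' a) =
        monomial m' (v ^ (Finsupp.weight w m') * a) := by
      rw [aeval_monomial, Finsupp.prod_fintype _ _ (by simp)]
      simp_rw [mul_pow]
      rw [Finset.prod_mul_distrib, monomial_eq, Finsupp.prod_fintype _ _ (by simp), algebraMap_eq]
      have h2 : ∏ i, (C (v ^ w i) : MvPolynomial τ K) ^ m' i = C (v ^ (Finsupp.weight w m')) := by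
        simp_rw [← map_pow, ← map_prod]
        congr 1
        simp_rw [← pow_mul]
        rw [Finset.prod_pow_eq_pow_sum, Finsupp.weight_eq_sum]
        congr 1
        exact Finset.sum_congr rfl fun i _ => by rw [smul_eq_mul, mul_comm]
      rw [h2, map_mul]
      ring
    rw [h1, coeff_monomial, coeff_monomial]
    split_ifs with h
    · rw [h]
    · rw [mul_zero]

/-- a polynomial with `f(v^w x) = v^n f(x)` is weighted homogeneous of degree `n` -/
lemma isWH_of_scale [Infinite K] [Fintype τ] {w : τ → ℕ} {f : MvPolynomial τ K} {n : ℕ}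
    (h : ∀ v : K, v ≠ 0 → ∀ x : τ → K, eval (fun i => v ^ w i * x i) f = v ^ n * eval x f) :
    IsWeightedHomogeneous w f n := by
  intro m hm
  have h1 : ∀ v : K, v ≠ 0 → v ^ (Finsupp.weight w m) = v ^ n := by
    intro v hv
    have h2 : aeval (fun i => C (v ^ w i) * X i : τ → MvPolynomial τ K) f = C (v ^ n) * f := by
      apply MvPolynomial.funext
      intro x
      rw [map_mul, eval_C, ← h v hv x, eval_aeval]
      simp only [map_mul, eval_C, eval_X]
    have h3 := congrArg (coeff m) h2
    rw [coeff_aeval_scale, coeff_C_mul] at h3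
    exact mul_right_cancel₀ hm h3
  have h2 : (Polynomial.X ^ (Finsupp.weight w m) : Polynomial K) = Polynomial.X ^ n := by
    apply eq_of_eval_ne_zero
    intro s hs
    rw [Polynomial.eval_pow, Polynomial.eval_pow, Polynomial.eval_X, h1 s hs]
  have h3 := congrArg Polynomial.natDegree h2
  rwa [Polynomial.natDegree_X_pow, Polynomial.natDegree_X_pow] at h3

/-- weights in a substitution by weighted homogeneous polynomials -/
lemma exists_weight_of_mem_support [Fintype σ] {w : σ → ℕ} {w' : τ → ℕ} {z : σ → MvPolynomial τ K}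
    (hz : ∀ c, IsWeightedHomogeneous w' (z c) (w c)) {h : MvPolynomial σ K} {m : τ →₀ ℕ}
    (hm : m ∈ (aeval z h).support) : ∃ m₀ ∈ h.support, Finsupp.weight w' m = Finsupp.weight w m₀ := by
  classical
  by_contra hcon
  push Not at hcon
  apply mem_support_iff.1 hm
  rw [h.as_sum, map_sum, coeff_sum]
  apply Finset.sum_eq_zero
  intro m₀ hm₀
  have h1 : IsWeightedHomogeneous w' (aeval z (monomial m₀ (coeff m₀ h))) (Finsupp.weight w m₀) := by
    rw [aeval_monomial, Finsupp.prod_fintype _ _ (by simp), algebraMap_eq, ← zero_add (Finsupp.weight w m₀)]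
    refine IsWeightedHomogeneous.mul (isWeightedHomogeneous_C _ _) ?_
    rw [Finsupp.weight_eq_sum]
    exact IsWeightedHomogeneous.prod _ _ _ fun i _ => (hz i).pow _
  exact h1.coeff_eq_zero _ (hcon m₀ hm₀)

/-- coefficients with values in a subspace -/
lemma coeff_mem [Infinite K] {V : Type*} [AddCommGroup V] [Module K V] (W : Submodule K V)
    (S : Finset (σ →₀ ℕ)) (v : (σ →₀ ℕ) → V)
    (h : ∀ x : σ → K, ∑ e ∈ S, (e.prod fun i k => x i ^ k) • v e ∈ W) {e : σ →₀ ℕ} (he : e ∈ S) :
    v e ∈ W := by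
  classical
  by_contra hne
  obtain ⟨θ, hθ, hle⟩ := Submodule.exists_le_ker_of_notMem hne
  apply hθ
  let p : MvPolynomial σ K := ∑ e ∈ S, monomial e (θ (v e))
  have hp : p = 0 := by
    apply MvPolynomial.funext
    intro x
    have h1 : θ (∑ e ∈ S, (e.prod fun i k => x i ^ k) • v e) = 0 := hle (h x)
    rw [map_sum] at h1
    rw [map_zero, ← h1, map_sum]
    refine Finset.sum_congr rfl fun d _ => ?_
    rw [eval_monomial, map_smul, smul_eq_mul, mul_comm]
  have h1 : coeff e p = θ (v e) := by
    rw [coeff_sum, Finset.sum_eq_single e]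
    · rw [coeff_monomial, if_pos rfl]
    · intro d _ hd
      rw [coeff_monomial, if_neg hd]
    · intro h; exact absurd he h
  rw [hp, coeff_zero] at h1
  exact h1.symm

end poly

variable {idx M : Type} [Fintype idx] [AddCommGroup M] [Module.Free ℤ M]
    [Module.Finite ℤ M] {P : RootPairing idx ℤ M (Module.Dual ℤ M)} {b : P.Base}
    {K A : Type u} [Field K] [CommRing A] [Algebra K A] [PtGrp K A]
    (E : PinCell P b K A)

/-- **The multiplication law of `U⁺`.** -/
theorem exists_mulz : ∃ z : PI b → MvPolynomial (PI b ⊕ PI b) K,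
    (∀ {B : Type u} [CommRing B] [Algebra K B] (x y : PI b → B),
      pu E x * pu E y = pu E (fun c => aeval (Sum.elim x y) (z c))) ∧
    (∀ c, aeval (Sum.elim X 0 : PI b ⊕ PI b → MvPolynomial (PI b) K) (z c) = X c) ∧
    ∀ c, aeval (Sum.elim 0 X : PI b ⊕ PI b → MvPolynomial (PI b) K) (z c) = X c := by
  obtain ⟨z, hz⟩ := exists_pu E (mul_mem
    (pu_mem E (fun c => X (Sum.inl c) : PI b → MvPolynomial (PI b ⊕ PI b) K))
    (pu_mem E (fun c => X (Sum.inr c) : PI b → MvPolynomial (PI b ⊕ PI b) K)))
  have hz' : ∀ {B : Type u} [CommRing B] [Algebra K B] (x y : PI b → B),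
      pu E x * pu E y = pu E (fun c => aeval (Sum.elim x y) (z c)) := by
    intro B _ _ x y
    have h := congrArg (Pt.map (aeval (R := K) (Sum.elim x y))) hz
    rw [Pt.map_mul, pu_nat, pu_nat, pu_nat] at h
    simpa using h
  refine ⟨z, hz', fun c => ?_, fun c => ?_⟩
  · have h := hz' (X : PI b → MvPolynomial (PI b) K) 0
    rw [pu_zero, mul_one] at h
    exact (congrFun (pu_inj E h) c).symm
  · have h := hz' 0 (X : PI b → MvPolynomial (PI b) K)
    rw [pu_zero, one_mul] at h
    exact (congrFun (pu_inj E h) c).symm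

/-- a strictly dominant cocharacter -/
lemma exists_dominant (b : P.Base) : ∃ μ : Module.Dual ℤ M, ∀ c, b.IsPos c → 0 < μ (P.root c) := by
  obtain ⟨lam, n, hn, h⟩ := PinComb.exists_height_functional b
  refine ⟨lam.toIntLinearMap, fun c hc => ?_⟩
  change 0 < lam (P.root c)
  rw [h]
  exact mul_pos hn ((RootPairing.Base.isPos_iff _).1 hc)

lemma wt_pos {μ : Module.Dual ℤ M} (hμ : ∀ c, b.IsPos c → 0 < μ (P.root c)) (c : PI b) :
    0 < wt b μ c := by
  have := hμ c c.2
  unfold wt
  omega

lemma dom_simple {μ : Module.Dual ℤ M} (hμ : ∀ c, b.IsPos c → 0 < μ (P.root c)) :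
    ∀ a ∈ b.support, 0 ≤ μ (P.root a) := fun a ha =>
  (hμ a (RootPairing.Base.isPos_of_mem_support ha)).le

/-- the multiplication law is weighted homogeneous -/
lemma isWH_mulz [Infinite K] {μ : Module.Dual ℤ M} (hμ : ∀ c, b.IsPos c → 0 < μ (P.root c))
    {z : PI b → MvPolynomial (PI b ⊕ PI b) K}
    (hz : ∀ {B : Type u} [CommRing B] [Algebra K B] (x y : PI b → B),
      pu E x * pu E y = pu E (fun c => aeval (Sum.elim x y) (z c))) (c : PI b) :
    IsWeightedHomogeneous (Sum.elim (wt b μ) (wt b μ)) (z c) (wt b μ c) := by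
  apply isWH_of_scale
  intro v hv x
  have h1 := conj_cow_pu E (dom_simple hμ) (B := K) (Units.mk0 v hv)
  rw [Units.val_mk0] at h1
  have h2 : pu E (fun c => aeval (Sum.elim (fun i => v ^ wt b μ i * x (Sum.inl i))
      (fun i => v ^ wt b μ i * x (Sum.inr i))) (z c)) =
      pu E (fun c => v ^ wt b μ c * aeval (Sum.elim (x ∘ Sum.inl) (x ∘ Sum.inr)) (z c)) := by
    rw [← hz, ← h1 (fun c => aeval (Sum.elim (x ∘ Sum.inl) (x ∘ Sum.inr)) (z c)), ← hz]
    have e1 := h1 (x ∘ Sum.inl)
    have e2 := h1 (x ∘ Sum.inr)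
    simp only [Function.comp_apply] at e1 e2
    rw [← e1, ← e2]
    group
  have h3 := congrFun (pu_inj E h2) c
  have e1 : (Sum.elim (fun i => v ^ wt b μ i * x (Sum.inl i)) (fun i => v ^ wt b μ i * x (Sum.inr i)) :
      PI b ⊕ PI b → K) = fun i => v ^ (Sum.elim (wt b μ) (wt b μ) i) * x i := by
    funext i
    rcases i with i | i <;> rfl
  have e2 : (Sum.elim (x ∘ Sum.inl) (x ∘ Sum.inr) : PI b ⊕ PI b → K) = x := by
    funext i
    rcases i with i | i <;> rfl
  rw [e1, e2] at h3
  exact h3

end K702.Hab
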