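import Groth.Agent.AGF.K702.Longest

/-!
# Nondegeneracy

For `Λ` in `F1 E lam ∩ F2 E lam` with values `1` on `U⁺`, `⟨lam, γ^∨⟩ = q - 1` for all simple roots `γ`,
there are points `g l`, `h m`, `l, m : PI b → Fin q`, with `det (Λ (g l * h m)) ≠ 0`.
-/

set_option autoImplicit false
set_option linter.unusedSectionVars false
universe u

namespace K702.Hab

open Groth.Agent.Sga3B Groth.Agent.Sga3B.Cell Groth.Agent.Sga3B.Word Groth.Agent.Sga3B.MT
open Groth.Agent.RedSub.H638.WeylBase Groth.Agent.RedSub.H638.WeylCover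
open Groth.Agent.RedSub.H662 Panel PosPt Homog Step
open MvPolynomial

section ex

variable {B : Type*} [Zero B] {n : ℕ}

/-- extension by zero -/
def ex (x : Fin n → B) : ℕ → B := fun i => if h : i < n then x ⟨i, h⟩ else 0

lemma ex_cons_zero (s : B) (x : Fin n → B) : ex (Fin.cons s x : Fin (n + 1) → B) 0 = s := by
  unfold ex
  rw [dif_pos (Nat.succ_pos n)]
  rfl

lemma ex_cons_succ (s : B) (x : Fin n → B) :
    (fun k => ex (Fin.cons s x : Fin (n + 1) → B) (k + 1)) = ex x := by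
  funext k
  unfold ex
  by_cases h : k < n
  · rw [dif_pos h, dif_pos (Nat.succ_lt_succ h)]
    rfl
  · rw [dif_neg h, dif_neg (fun h' => h (Nat.lt_of_succ_lt_succ h'))]

end ex

variable {idx M : Type} [Fintype idx] [AddCommGroup M] [Module.Free ℤ M]
    [Module.Finite ℤ M] {P : RootPairing idx ℤ M (Module.Dual ℤ M)} {b : P.Base}
    {K A : Type u} [Field K] [CommRing A] [Algebra K A] [PtGrp K A]
    (E : PinCell P b K A)

lemma ch_ne_zero (m : M) (t : TPt M K) : TPt.ch m t ≠ 0 := (TPt.isUnit_ch m t).ne_zero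

lemma gl_cons_inv {B : Type u} [CommRing B] [Algebra K B] (a : idx) (l : List idx) (x : ℕ → B) :
    (gl E (a :: l) x)⁻¹ * nw E B (a :: l) =
      E.uu a B (- x 0) * (E.nn a B * ((gl E l (fun n => x (n + 1)))⁻¹ * nw E B l)) := by
  rw [gl, nw_cons, E.uu_neg]
  group

/-- the leading coefficient along a word in the simple roots -/
lemma coeff_word [IsAlgClosed K] {lam : M} {m : ℕ} (hm : ∀ γ ∈ b.support, P.coroot γ lam = m) {a₀ : A}
    (ha₀ : a₀ ∈ F1 E lam) (h1 : (1 : Pt K A K).hom a₀ ≠ 0) (l : List idx)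
    (hl : ∀ a ∈ l, a ∈ b.support) (n : ℕ) (hn : l.length = n) (Q : MvPolynomial (Fin n) K)
    (hQ : ∀ x : Fin n → K, eval x Q = ((gl E l (ex x))⁻¹ * nw E K l).hom a₀) :
    coeff (Finsupp.equivFunOnFinite.symm fun _ => m) Q ≠ 0 := by
  have hinf : Infinite K := IsAlgClosed.instInfinite
  induction l generalizing n with
  | nil =>
    subst hn
    have h2 : Q = C ((1 : Pt K A K).hom a₀) := by
      apply MvPolynomial.funext
      intro x
      rw [hQ, eval_C, nw_nil, mul_one, gl, inv_one]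
    rw [h2]
    have h3 : (Finsupp.equivFunOnFinite.symm fun _ : Fin (List.length (α := idx) []) => m) = 0 := by
      ext i
      exact i.elim0
    rw [h3, coeff_zero_C]
    exact h1
  | cons a l ih =>
    subst hn
    have ha := hl a List.mem_cons_self
    set N := l.length with hN
    change MvPolynomial (Fin (N + 1)) K at Q
    set Q' : MvPolynomial (Fin N) K := (finSuccEquiv K N Q).coeff m with hQ'
    set c : K := TPt.ch lam (TPt.cow (P.coroot a) (-1) : TPt M K)⁻¹ * (-1) ^ m with hc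
    have hc0 : c ≠ 0 := mul_ne_zero (ch_ne_zero _ _) (pow_ne_zero _ (neg_ne_zero.2 one_ne_zero))
    have hQ'x : ∀ x : Fin N → K, eval x Q' = c * ((gl E l (ex x))⁻¹ * nw E K l).hom a₀ := by
      intro x
      set y : Pt K A K := (gl E l (ex x))⁻¹ * nw E K l with hy
      have hT : Polynomial.map (eval x) (finSuccEquiv K N Q) =
          (dpol E a (E.nn a K * y) a₀).comp (Polynomial.C (-1) * Polynomial.X) := by
        apply eq_of_eval_ne_zero
        intro s _
        rw [← eval_eq_eval_mv_eval', hQ, gl_cons_inv, ex_cons_zero, ex_cons_succ,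
          Polynomial.eval_comp, eval_dpol]
        simp only [Polynomial.eval_mul, Polynomial.eval_C, Polynomial.eval_X, neg_mul, one_mul]
        rfl
      have h3 := congrArg (fun q : Polynomial K => q.coeff m) hT
      simp only [Polynomial.coeff_map, Polynomial.comp_C_mul_X_coeff] at h3
      have h4 : E.nn a K * E.nn a K = E.i K (TPt.cow (P.coroot a) (-1))⁻¹ := by
        have h5 := nn_inv E (B := K) ha
        rw [i_inv, eq_inv_iff_mul_eq_one]
        have h6 : E.i K (TPt.cow (P.coroot a) (-1)) = (E.nn a K)⁻¹ * (E.nn a K)⁻¹ := by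
          conv_rhs => enter [1]; rw [h5]
          group
        rw [h6]
        group
      rw [hQ', h3, (degree_lemma E ha (hm a ha) ha₀ _).2, ← mul_assoc (E.nn a K), h4, F1.i E ha₀, hc]
      ring
    have h2 := ih (fun c hc => hl c (List.mem_cons_of_mem _ hc)) N rfl (C c⁻¹ * Q') (by
      intro x
      rw [map_mul, eval_C, hQ'x, inv_mul_cancel_left₀ hc0])
    intro h0
    apply h2
    rw [coeff_C_mul, hQ', finSuccEquiv_coeff_coeff]
    have h3 : Finsupp.cons m (Finsupp.equivFunOnFinite.symm fun _ : Fin N => m) =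
        Finsupp.equivFunOnFinite.symm fun _ : Fin (N + 1) => m := by
      ext i
      refine Fin.cases ?_ (fun i => ?_) i
      · rw [Finsupp.cons_zero]; rfl
      · rw [Finsupp.cons_succ]; rfl
    rw [h3]
    change coeff (Finsupp.equivFunOnFinite.symm fun _ : Fin (N + 1) => m) Q = 0 at h0
    rw [h0, mul_zero]

section nondeg

variable [IsAlgClosed K] [IsDomain A] {lam : M} {p r : ℕ} [Fact p.Prime] [CharP K p]
  (hlam : ∀ γ ∈ b.support, P.coroot γ lam = ((p ^ r - 1 : ℕ) : ℤ)) {Λ : A}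
  (hΛ : Λ ∈ F1 E lam) (hΛ2 : Λ ∈ F2 E lam) (hΛ1 : ∀ u ∈ Up E K, u.hom Λ = 1)
  {l : List idx} (hl : Red b l)

include hlam hΛ hΛ1 hl in
/-- the restriction of `Λ` to `U⁺ n` is not in `Jq` -/
lemma notMem_Jq : res E (rtr (nw E K l) Λ) ∉ Jq (PI b) K (p ^ r) := by
  classical
  have hq : 0 < p ^ r := pow_pos (Fact.out : p.Prime).pos r
  intro hJ
  set n := l.length with hn
  let R := MvPolynomial (Fin n) K
  let X' : ℕ → R := ex fun i : Fin n => X i
  have hmem : (gl E l X')⁻¹ ∈ Up E R := inv_mem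
    (gl_mem E hl.support X' _ fun c hc y => uu_mem_Up E (hl.invl c hc).1 y)
  obtain ⟨ξ, hξ⟩ := exists_pu E hmem
  have hev : ∀ x : Fin n → K, pu E (fun c => eval x (ξ c)) = (gl E l (ex x))⁻¹ := by
    intro x
    have h1 := congrArg (Pt.map (aeval (R := K) x)) hξ
    rw [Pt.map_inv, gl_nat, pu_nat] at h1
    have h2 : (fun n => aeval (R := K) x (X' n)) = ex x := by
      funext k
      change aeval (R := K) x (ex (fun i : Fin n => (X i : R)) k) = ex x k
      unfold ex
      by_cases h : k < n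
      · rw [dif_pos h, dif_pos h, aeval_X]
      · rw [dif_neg h, dif_neg h, map_zero]
    rw [h2] at h1
    simp only [aeval_eq_eval] at h1
    exact h1.symm
  have hξ0 : ∀ c, constantCoeff (ξ c) = 0 := by
    intro c
    have h1 := hev 0
    have h2 : ex (0 : Fin n → K) = fun _ => (0 : K) := by
      funext k
      unfold ex
      split_ifs <;> rfl
    rw [h2, gl_zero, inv_one, ← pu_zero E] at h1
    have h3 := congrFun (pu_inj E h1) c
    rw [← eval_zero]
    exact h3
  have hQJ : aeval ξ (res E (rtr (nw E K l) Λ)) ∈ Jq (Fin n) K (p ^ r) :=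
    map_mem_Jq (p := p) (r := r) (aeval ξ : MvPolynomial (PI b) K →ₐ[K] MvPolynomial (Fin n) K)
      (fun c => by rw [aeval_X]; exact hξ0 c) hJ
  refine coeff_word E hlam hΛ ?_ l hl.support n rfl (aeval ξ (res E (rtr (nw E K l) Λ))) ?_ ?_
  · rw [hΛ1 1 (one_mem _)]
    exact one_ne_zero
  · intro x
    rw [eval_aeval, eval_res, hom_rtr, hev]
  · apply coeff_eq_zero_of_mem_Jq hQJ
    intro c
    change p ^ r - 1 < p ^ r
    omega

include hΛ hΛ2 in
/-- the restriction of `Λ` to `U⁺ n` is weighted homogeneous -/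
lemma isWH_f (hs : ∀ a ∈ l, a ∈ b.support) (hwl : wl' P l lam = -lam) {μ : Module.Dual ℤ M}
    (hμ : ∀ c, b.IsPos c → 0 < μ (P.root c))
    {N : ℕ} (hN : μ (lam + lam) = N) :
    IsWeightedHomogeneous (wt b μ) (res E (rtr (nw E K l) Λ)) N := by
  have hinf : Infinite K := IsAlgClosed.instInfinite
  apply isWH_of_scale
  intro v hv x
  have h1 := conj_cow_pu E (dom_simple hμ) (B := K) (Units.mk0 v hv) x
  rw [Units.val_mk0] at h1
  rw [eval_res, eval_res, hom_rtr, hom_rtr, ← h1]
  set t : TPt M K := TPt.cow μ (Units.mk0 v hv) with ht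
  obtain ⟨t', ht', hm⟩ := conj_i_wl' E hs t⁻¹
  have h2 : E.i K t * pu E x * (E.i K t)⁻¹ * nw E K l =
      E.i K t * (pu E x * nw E K l * E.i K t') := by
    rw [← ht', i_inv]
    group
  have h3 : (pu E x * nw E K l * E.i K t').hom Λ = TPt.ch lam t' * (pu E x * nw E K l).hom Λ := by
    have := hΛ2 1 (one_mem _) t' (pu E x * nw E K l)
    rwa [mul_one] at this
  rw [h2, F1.i E hΛ, h3, ← mul_assoc, hm, hwl]
  congr 1
  have h4 : TPt.ch (-lam) t⁻¹ = TPt.ch lam t := by
    simp [TPt.ch, ofAdd_neg]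
  rw [h4, ← TPt.ch_add, ht, TPt.ch_cow, hN, zpow_natCast, Units.val_pow_eq_pow_val, Units.val_mk0]

open Classical in
include hlam hΛ hΛ2 hΛ1 hl in
/-- **Nondegeneracy.** -/
theorem exists_det_points {ρ : M} (hρ : ρ + ρ = tworho b) (hlamρ : lam = (p ^ r - 1) • ρ)
    (hwl : wl' P l lam = -lam) :
    ∃ g h : (PI b → Fin (p ^ r)) → Pt K A K,
      (Matrix.of fun i j => (g i * h j).hom Λ).det ≠ 0 := by
  have hinf : Infinite K := IsAlgClosed.instInfinite
  have hq : 0 < p ^ r := pow_pos (Fact.out : p.Prime).pos r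
  obtain ⟨μ, hμ⟩ := exists_dominant b
  set f := res E (rtr (nw E K l) Λ) with hf
  have hN : μ (lam + lam) = (((p ^ r - 1) * ∑ c, wt b μ c : ℕ) : ℤ) := by
    rw [hlamρ, ← smul_add, hρ, map_nsmul, tworho, map_sum, nsmul_eq_mul, Nat.cast_mul, Nat.cast_sum]
    congr 1
    refine Finset.sum_congr rfl fun c _ => ?_
    exact (wt_eq (dom_simple hμ) c).symm
  have hwh := isWH_f E hΛ hΛ2 hl.support hwl hμ hN
  rw [← hf] at hwh
  have hkey : ∀ m ∈ f.support, (∀ c, m c < p ^ r) → m = expo fun _ => p ^ r - 1 := by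
    intro m hm hlt
    have h1 := hwh (mem_support_iff.1 hm)
    rw [Finsupp.weight_eq_sum, Finset.mul_sum] at h1
    have h2 : ∀ c ∈ Finset.univ, m c • wt b μ c ≤ (p ^ r - 1) * wt b μ c := by
      intro c _
      rw [smul_eq_mul]
      exact Nat.mul_le_mul_right _ (by have := hlt c; omega)
    have h3 := (Finset.sum_eq_sum_iff_of_le h2).1 h1
    ext c
    have h4 := h3 c (Finset.mem_univ c)
    rw [smul_eq_mul] at h4
    exact Nat.eq_of_mul_eq_mul_right (wt_pos hμ c) h4
  set c₀ := coeff (expo fun _ => p ^ r - 1) f with hc₀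
  have hmon : (∏ i, X i ^ (p ^ r - 1) : MvPolynomial (PI b) K) = monomial (expo fun _ => p ^ r - 1) 1 := by
    rw [monomial_eq, Finsupp.prod_fintype _ _ (by simp), C_1, one_mul]
    rfl
  have hsub : f - C c₀ * ∏ i, X i ^ (p ^ r - 1) ∈ Jq (PI b) K (p ^ r) := by
    rw [mem_Jq_iff]
    intro e he
    by_contra hcon
    push Not at hcon
    apply mem_support_iff.1 he
    rw [hmon, C_mul_monomial, mul_one, coeff_sub, coeff_monomial]
    split_ifs with h
    · rw [← h, ← hc₀, sub_self]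
    · rw [sub_zero]
      by_contra h0
      exact h (hkey e (mem_support_iff.2 h0) hcon).symm
  have hc0 : c₀ ≠ 0 := by
    intro h0
    rw [h0, C_0, zero_mul, sub_zero] at hsub
    exact notMem_Jq E hlam hΛ hΛ1 hl hsub
  obtain ⟨z, hz, hz1, hz2⟩ := exists_mulz E
  obtain ⟨x, y, hdet⟩ := exists_det hz1 hz2 hc0 hsub
  refine ⟨fun i => pu E (x i), fun j => pu E (y j) * nw E K l, ?_⟩
  convert hdet using 3
  funext i j
  have h1 : pu E (x i) * pu E (y j) = pu E (fun c => eval (Sum.elim (x i) (y j)) (z c)) := by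
    rw [hz]
    simp only [aeval_eq_eval]
  change (pu E (x i) * (pu E (y j) * nw E K l)).hom Λ = _
  rw [hf, eval_res, hom_rtr, ← h1, mul_assoc]

end nondeg

/-! ### the function `Δ` -/

lemma F1.mul {lam lam' : M} {a a' : A} (ha : a ∈ F1 E lam) (ha' : a' ∈ F1 E lam') :
    a * a' ∈ F1 E (lam + lam') := by
  intro u hu t g
  rw [map_mul, map_mul, ha u hu, ha' u hu, TPt.ch_add]
  ring

lemma F2.mul {lam lam' : M} {a a' : A} (ha : a ∈ F2 E lam) (ha' : a' ∈ F2 E lam') :
    a * a' ∈ F2 E (lam + lam') := by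
  intro u hu t g
  rw [map_mul, map_mul, ha u hu, ha' u hu, TPt.ch_add]
  ring

lemma F1.pow {lam : M} {a : A} (ha : a ∈ F1 E lam) (k : ℕ) : a ^ k ∈ F1 E (k • lam) := by
  induction k with
  | zero =>
    rw [pow_zero, zero_smul]
    intro u hu t g
    rw [map_one, map_one, TPt.ch_zero, one_mul]
  | succ k ih =>
    rw [pow_succ, succ_nsmul]
    exact F1.mul E ih ha

lemma F2.pow {lam : M} {a : A} (ha : a ∈ F2 E lam) (k : ℕ) : a ^ k ∈ F2 E (k • lam) := by
  induction k with
  | zero =>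
    rw [pow_zero, zero_smul]
    intro u hu t g
    rw [map_one, map_one, TPt.ch_zero, one_mul]
  | succ k ih =>
    rw [pow_succ, succ_nsmul]
    exact F2.mul E ih ha

/-- points in the big cell as `u⁻ i(t) u⁺` -/
lemma exists_of_inC {g : Pt K A K} (hg : InC E g) : ∃ (x : idx → K) (t : TPt M K), ∃ v ∈ Up E K,
    g = negP E x * E.i K t * v ∧ g = E.cell x t := by
  obtain ⟨x, t, rfl⟩ := hg
  refine ⟨x, t, (E.i K t)⁻¹ * posP E x * E.i K t, ?_, ?_, rfl⟩
  · have := conj_i_mem_Up E t⁻¹ (posP_mem_Up E x)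
    rwa [i_inv, inv_inv] at this
  · rw [cell_eq_mul]
    group

/-- `u i(t) v` in the form of the big cell -/
lemma eq_cell {u v : Pt K A K} (hu : u ∈ Um E K) (hv : v ∈ Up E K) (t : TPt M K) :
    ∃ x : idx → K, u * E.i K t * v = E.cell x t ∧ negP E x = u := by
  classical
  obtain ⟨y, hy⟩ := conj_i_mem_Up E t hv
  obtain ⟨x, rfl⟩ := hu
  have h1 : negP E (fun a => if b.IsPos a then y a else x a) = negP E x :=
    negP_congr E fun a ha => by rw [if_neg ha]
  have h2 : posP E (fun a => if b.IsPos a then y a else x a) = posP E y :=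
    posP_congr E fun a ha => by rw [if_pos ha]
  refine ⟨fun a => if b.IsPos a then y a else x a, ?_, h1⟩
  rw [cell_eq_mul, h1, h2, ← hy]
  group

section delta

variable {ρ : M} {Δ : A} (h1 : ∀ (x : idx → K) (t : TPt M K), (E.cell x t).hom Δ = TPt.ch ρ t)
  (h2 : ∀ g : Pt K A K, ¬ InC E g → g.hom Δ = 0)

include h1 h2

lemma mem_F1_of : Δ ∈ F1 E ρ := by
  intro u hu t g
  by_cases hg : InC E g
  · obtain ⟨x, t', v, hv, hx, hx'⟩ := exists_of_inC E hg
    have e1 : u * E.i K t * g = (u * (E.i K t * negP E x * (E.i K t)⁻¹)) * E.i K (t * t') * v := by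
      rw [hx, map_mul]
      group
    obtain ⟨y, hy, -⟩ := eq_cell E (mul_mem hu (conj_i_mem_Um E t (negP_mem_Um E x))) hv (t * t')
    rw [e1, hy, h1, hx', h1, TPt.ch_mul]
  · have : ¬ InC E (u * E.i K t * g) := by
      rw [mul_assoc, inC_um_mul E hu, inC_i_mul]
      exact hg
    rw [h2 _ this, h2 _ hg, mul_zero]

lemma mem_F2_of : Δ ∈ F2 E ρ := by
  intro u hu t g
  by_cases hg : InC E g
  · obtain ⟨x, t', v, hv, hx, hx'⟩ := exists_of_inC E hg
    have e1 : g * E.i K t * u = negP E x * E.i K (t' * t) * ((E.i K t)⁻¹ * v * E.i K t * u) := by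
      rw [hx, map_mul]
      group
    have e2 : (E.i K t)⁻¹ * v * E.i K t * u ∈ Up E K := by
      refine mul_mem ?_ hu
      have := conj_i_mem_Up E t⁻¹ hv
      rwa [i_inv, inv_inv] at this
    obtain ⟨y, hy, -⟩ := eq_cell E (negP_mem_Um E x) e2 (t' * t)
    rw [e1, hy, h1, hx', h1, TPt.ch_mul, mul_comm]
  · have : ¬ InC E (g * E.i K t * u) := by
      rw [inC_mul_bor E (Up_le_Bor E hu), inC_mul_bor E (i_mem_Bor E t)]
      exact hg
    rw [h2 _ this, h2 _ hg, mul_zero]

lemma hom_up_of {u : Pt K A K} (hu : u ∈ Up E K) : u.hom Δ = 1 := by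
  obtain ⟨y, hy, -⟩ := eq_cell E (one_mem _) hu 1
  rw [map_one, one_mul, one_mul] at hy
  rw [hy, h1, TPt.ch_one]

end delta

end K702.Hab
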