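import Groth.Agent.AGF.K702.PinGeom
import Groth.Agent.AGF.K702.CoverDatum
import Groth.Agent.Redsub.H632.X3Final
import Groth.Agent.RedSub.H630.ChevExists
import Groth.Agent.RedSub.H368.Final

/-!
# Geometric reductivity of pinned groups in positive characteristic, general case

By passage to the cover on which `ρ` is a character.
-/

set_option autoImplicit false
set_option linter.unusedSectionVars false
universe u

open Groth.Agent.Sga3B Groth.Agent.Sga3B.Cell Groth.Agent.Sga3B.Word Groth.Agent.Sga3B.MT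
open Groth.Agent.RedSub.H638.WeylBase Groth.Agent.RedSub.H638.WeylCover
open Groth.Agent.RedSub.H662 Panel PosPt Homog Step
open Groth.Agent.RedSub.H368.HopfPts
open K497.Rat (GeomRed symAct symTo)
open Groth.Agent.Sga3B.PtDescent (comap)

namespace K702.Hab

/-- geometric reductivity passes to the images of regular homomorphisms -/
theorem geomRed_of_surjective {K : Type u} [Field K] {A A₁ : Type u} [CommRing A] [HopfAlgebra K A]
    [CommRing A₁] [HopfAlgebra K A₁] (π : RG.Pt K A₁ →* RG.Pt K A) (hreg : RG.IsReg π)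
    (hs : Function.Surjective π) (h : GeomRed K A₁) : GeomRed K A := by
  intro V _ _ _ ρ hρ φ hφ hφ0
  obtain ⟨n, hn, F, hF, hF2⟩ := h V (ρ.comp π) (by
    intro f v
    obtain ⟨a, ha⟩ := hρ f v
    obtain ⟨a₁, ha₁⟩ := hreg a
    exact ⟨a₁, fun g => (ha (π g)).trans (ha₁ g)⟩) φ (fun g v => hφ (π g) v) hφ0
  refine ⟨n, hn, F, fun g => ?_, hF2⟩
  obtain ⟨g₁, rfl⟩ := hs g
  exact hF g₁

variable {idx M : Type} [Fintype idx] [AddCommGroup M] [Module.Free ℤ M]
    [Module.Finite ℤ M] {P : RootPairing idx ℤ M (Module.Dual ℤ M)} {b : P.Base}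
    {K A : Type u} [Field K] [CommRing A]

/-- square roots of torus points -/
lemma exists_sqrt_TPt [IsAlgClosed K] (t : TPt M K) : ∃ s : TPt M K, s * s = t := by
  classical
  let β := Module.Free.chooseBasis ℤ M
  have hsq : ∀ x : Kˣ, ∃ y : Kˣ, y * y = x := by
    intro x
    obtain ⟨y, hy⟩ := IsAlgClosed.exists_pow_nat_eq (x : K) (n := 2) two_pos
    have hy0 : y ≠ 0 := by
      rintro rfl
      rw [zero_pow two_ne_zero] at hy
      exact x.ne_zero hy.symm
    exact ⟨Units.mk0 y hy0, Units.ext (by rw [Units.val_mul, Units.val_mk0, ← sq, hy])⟩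
  choose r hr using hsq
  let f : M →ₗ[ℤ] Additive Kˣ := AddMonoidHom.toIntLinearMap
    { toFun := fun m => Additive.ofMul (t (Multiplicative.ofAdd m))
      map_zero' := map_one t
      map_add' := fun m m' => map_mul t (Multiplicative.ofAdd m) (Multiplicative.ofAdd m') }
  let g : M →ₗ[ℤ] Additive Kˣ := β.constr ℤ fun i => Additive.ofMul (r (f (β i)).toMul)
  have h1 : g + g = f := by
    apply β.ext
    intro i
    rw [LinearMap.add_apply, β.constr_basis]
    change Additive.ofMul (r (f (β i)).toMul * r (f (β i)).toMul) = f (β i)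
    rw [hr]
    rfl
  let s : TPt M K :=
    { toFun := fun m => (g m.toAdd).toMul
      map_one' := map_zero g
      map_mul' := fun m m' => map_add g m.toAdd m'.toAdd }
  refine ⟨s, MonoidHom.ext fun m => ?_⟩
  have h2 := LinearMap.congr_fun h1 m.toAdd
  exact h2

variable [HopfAlgebra K A] [PtGrp K A] (hc : Compat K A) (E : PinCell P b K A)

include E in
lemma isDomain_of_pin : IsDomain A := by
  have h := E.domain K
  exact (Algebra.TensorProduct.lid K A).symm.injective.isDomain (Algebra.TensorProduct.lid K A).symm.toRingHom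

include hc E in
/-- **Haboush's theorem for pinned groups.** -/
theorem geomRed_of_pin' [IsAlgClosed K] {p : ℕ} [Fact p.Prime] [CharP K p] : GeomRed K A := by
  classical
  have hpe := E.pairing_eq
  have h2 : ∀ γ ∈ b.support, P.coroot γ (tworho b) = 2 := fun γ hγ => coroot_tworho E hγ
  have hred : (covP hpe h2).IsReduced := PinComb.isReduced (covB hpe h2)
  obtain ⟨S⟩ := Groth.Agent.RedSub.H630.ChevExists.nonempty_chevSys.{u} (P := covP hpe h2) rfl (covB hpe h2)
  obtain ⟨A₁, _, _, _, ⟨E₁⟩⟩ := Groth.Agent.Redsub.H632.X3Final.exists_pinCell K S rfl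
  let _ := Groth.Agent.Sga3B.MT.PtHopf.hopf K A₁
  have hc₁ : Compat K A₁ := Groth.Agent.RedSub.H368.Final.compat_hopf K A₁
  have hdom : IsDomain A₁ := isDomain_of_pin E₁
  have hfp := E₁.fp
  have hft : Algebra.FiniteType K A₁ := inferInstance
  have hic : IsIntegrallyClosed A₁ := K496.Normal.isIntegrallyClosed K A₁
  have h1 : GeomRed K A₁ := geomRed_of_pin (p := p) hc₁ E₁ (covρ_add hpe h2)
  -- the homomorphism
  obtain ⟨φ, hφ1, hφ2, hφ3⟩ := K213.PMor.exists_algHom (covTw hpe h2)
    (fun B _ _ x y => by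
      change (x + y) ^ 1 = x ^ 1 + y ^ 1
      rw [pow_one, pow_one, pow_one]) E₁ E
  let ψ : Pt K A₁ K →* Pt K A K := MonoidHom.mk' (comap φ) (hφ1 K)
  let π : RG.Pt K A₁ →* RG.Pt K A := (ptConv hc K).toMonoidHom.comp (ψ.comp (ptConv hc₁ K).symm.toMonoidHom)
  refine geomRed_of_surjective π (fun a => ⟨φ a, fun g => rfl⟩) ?_ h1
  have hψ : Function.Surjective ψ := by
    rw [← MonoidHom.range_eq_top, eq_top_iff]
    intro g _
    have hle : gen E K ≤ ψ.range := by
      unfold gen
      rw [Subgroup.closure_le]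
      rintro _ (⟨t, rfl⟩ | ⟨γ, hγ, s, rfl | rfl⟩)
      · obtain ⟨s, hs⟩ := exists_sqrt_TPt t
        let t₁ : TPt (ML b) K := s.comp (AddMonoidHom.toMultiplicative (ML b).subtype.toAddMonoidHom)
        have ht : (covTw hpe h2).hT t₁ = t := by
          rw [← hs]
          refine MonoidHom.ext fun m => ?_
          change s (Multiplicative.ofAdd ((2 : ℤ) • m.toAdd)) = s m * s m
          rw [two_smul, ← map_mul]
          rfl
        refine ⟨E₁.i K t₁, ?_⟩
        change comap φ (E₁.i K t₁) = _
        rw [hφ2, ht]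
      · refine ⟨E₁.uu γ K s, ?_⟩
        change comap φ (E₁.uu γ K s) = _
        rw [(hφ3 γ hγ K s).1]
        change E.uu γ K (s ^ 1) = _
        rw [pow_one]
      · refine ⟨E₁.uu ((covP hpe h2).reflectionPerm γ γ) K s, ?_⟩
        change comap φ (E₁.uu ((covP hpe h2).reflectionPerm γ γ) K s) = _
        rw [(hφ3 γ hγ K s).2]
        change E.uu (P.reflectionPerm γ γ) K (s ^ 1) = _
        rw [pow_one]
    exact hle (mem_gen_of_isAlgClosed E g)
  exact (ptConv hc K).surjective.comp (hψ.comp (ptConv hc₁ K).symm.surjective)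

end K702.Hab
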