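import Groth.Agent.AGF.K702.Nondeg
import Groth.Agent.AGF.K702.DetTrick
import Groth.Agent.AGF.K496.Normal
import Groth.Agent.RedSub.H368.HopfPts
import Groth.Agent.Sga3B.RG.Wt

/-!
# Geometric reductivity of pinned groups in positive characteristic

`A` a Hopf algebra over the algebraically closed field `K` of characteristic `p > 0` with a pinned cell, such that half
the sum of the positive roots is a character: then `GeomRed K A`.
-/

set_option autoImplicit false
set_option linter.unusedSectionVars false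
universe u

namespace K702.Hab

open Groth.Agent.Sga3B Groth.Agent.Sga3B.Cell Groth.Agent.Sga3B.Word Groth.Agent.Sga3B.MT
open Groth.Agent.RedSub.H638.WeylBase Groth.Agent.RedSub.H638.WeylCover
open Groth.Agent.RedSub.H662 Panel PosPt Homog Step
open Groth.Agent.RedSub.H368.HopfPts
open K497.Rat (GeomRed)

variable {idx M : Type} [Fintype idx] [AddCommGroup M] [Module.Free ℤ M]
    [Module.Finite ℤ M] {P : RootPairing idx ℤ M (Module.Dual ℤ M)} {b : P.Base}
    {K A : Type u} [Field K] [CommRing A]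

lemma torChar_injective [IsAlgClosed K] : Function.Injective (RG.torChar K (Multiplicative M)) := by
  have hinf : Infinite K := IsAlgClosed.instInfinite
  intro m m' h
  by_contra hne
  obtain ⟨μ, hμ⟩ : ∃ μ : Module.Dual ℤ M, μ (m.toAdd - m'.toAdd) ≠ 0 := by
    by_contra! hc
    exact hne (Multiplicative.toAdd.injective (sub_eq_zero.1 ((Module.forall_dual_apply_eq_zero_iff ℤ _).1 hc)))
  obtain ⟨v, hv⟩ := RG.exists_zpow_ne_one (K := K) hμ
  apply hv
  have h1 := DFunLike.congr_fun h (TPt.cow μ v)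
  change TPt.ch m.toAdd (TPt.cow μ v) = TPt.ch m'.toAdd (TPt.cow μ v) at h1
  rw [TPt.ch_cow, TPt.ch_cow] at h1
  rw [map_sub, zpow_sub, Units.ext h1, mul_inv_cancel]

variable [HopfAlgebra K A] [PtGrp K A] (hc : Compat K A) (E : PinCell P b K A)

section fixed

variable {V : Type u} [AddCommGroup V] [Module K V] [FiniteDimensional K V]

/-- a vector fixed by the torus -/
lemma exists_fixed [IsAlgClosed K] {σ : Representation K (RG.Pt K A) V} (hσ : RG.IsAlg σ) {φ : V →ₗ[K] K}
    (hφ : ∀ g v, φ (σ g v) = φ v) (hφ0 : φ ≠ 0) :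
    ∃ v₀, (∀ t : TPt M K, σ (ptConv hc K (E.i K t)) v₀ = v₀) ∧ φ v₀ = 1 := by
  have hinf : Infinite K := IsAlgClosed.instInfinite
  obtain ⟨d⟩ := RG.WtDec.exists_dec (D := Multiplicative M →* Kˣ) (χ := RG.torChar K (Multiplicative M))
    (σ := (σ.comp (ptConv hc K).toMonoidHom).comp (E.i K)) torChar_injective (by
      intro f v
      obtain ⟨a, ha⟩ := hσ f v
      refine ⟨(E.toDatum.pi a).coeff, fun t => ?_⟩
      refine (ha _).trans ?_
      change (E.toDatum.i K t).hom a = _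
      rw [Datum.i_hom_apply, Datum.evT_apply]
      rfl)
  obtain ⟨v, hv⟩ : ∃ v, φ v ≠ 0 := by
    by_contra! hc
    exact hφ0 (LinearMap.ext hc)
  have hker : ∀ m ≠ (1 : Multiplicative M), φ (d.P m v) = 0 := by
    intro m hm
    by_contra h0
    apply hm
    apply torChar_injective (K := K)
    ext t
    have h1 := d.σ_P torChar_injective m t v
    have h2 := congrArg φ h1
    rw [map_smul, smul_eq_mul] at h2
    have h3 : φ (((σ.comp (ptConv hc K).toMonoidHom).comp (E.i K)) t (d.P m v)) = φ (d.P m v) := hφ _ _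
    rw [h3] at h2
    have h4 : RG.torChar K (Multiplicative M) m t = 1 := by
      have h5 : (RG.torChar K (Multiplicative M) m t - 1) * φ (d.P m v) = 0 := by
        rw [sub_mul, one_mul, ← h2, sub_self]
      exact sub_eq_zero.1 ((mul_eq_zero.1 h5).resolve_right h0)
    rw [h4, RG.torChar_apply, map_one, Units.val_one]
  have hsum : φ (d.P 1 v) = φ v := by
    conv_rhs => rw [← d.sum_P v, map_sum]
    by_cases h1 : (1 : Multiplicative M) ∈ d.S
    · rw [Finset.sum_eq_single 1 (fun m _ hm => hker m hm) (fun h => absurd h1 h)]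
    · rw [d.P_eq_zero 1 h1, LinearMap.zero_apply, map_zero]
      refine (Finset.sum_eq_zero fun m hm => hker m ?_).symm
      rintro rfl
      exact h1 hm
  refine ⟨(φ v)⁻¹ • d.P 1 v, fun t => ?_, ?_⟩
  · have h1 := d.σ_P torChar_injective 1 t v
    rw [RG.torChar_apply, map_one, Units.val_one, one_smul] at h1
    rw [map_smul]
    congr 1
  · rw [map_smul, hsum, smul_eq_mul, inv_mul_cancel₀ hv]

end fixed

section main

omit [Module.Free ℤ M] [Module.Finite ℤ M] in
lemma ch_nsmul (k : ℕ) (m : M) (t : TPt M K) : TPt.ch (k • m) t = TPt.ch m t ^ k := by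
  induction k with
  | zero => rw [zero_smul, TPt.ch_zero, pow_zero]
  | succ k ih => rw [succ_nsmul, TPt.ch_add, ih, pow_succ]

variable {V : Type u} [AddCommGroup V] [Module K V]

/-- **The function `Ψ`.** -/
lemma exists_Psi [IsAlgClosed K] [IsDomain A] [IsIntegrallyClosed A] [FiniteDimensional K V]
    {σ : Representation K (RG.Pt K A) V} (hσ : RG.IsAlg σ)
    {ρ : M} (hρ : ρ + ρ = tworho b) (v₀ : V) (hv₀ : ∀ t : TPt M K, σ (ptConv hc K (E.i K t)) v₀ = v₀) :
    ∃ Δ : A, Δ ∈ F1 E ρ ∧ Δ ∈ F2 E ρ ∧ (∀ u ∈ Up E K, u.hom Δ = 1) ∧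
      ∃ N : ℕ, ∀ k ≥ N, ∃ Ψ : Pt K A K → V,
        (∀ f : Module.Dual K V, ∃ a : A, ∀ g, f (Ψ g) = g.hom a) ∧
        (∀ u ∈ Um E K, ∀ (t : TPt M K) (g : Pt K A K),
          Ψ (u * E.i K t * g) = TPt.ch (k • ρ) t • σ (ptConv hc K (u * E.i K t)) (Ψ g)) ∧
        (∀ u ∈ Up E K, ∀ (t : TPt M K) (g : Pt K A K),
          Ψ (g * E.i K t * u) = TPt.ch (k • ρ) t • Ψ g) ∧
        ∀ φ : V →ₗ[K] K, (∀ g v, φ (σ g v) = φ v) → ∀ g, φ (Ψ g) = φ v₀ * g.hom (Δ ^ k) := by
  classical
  obtain ⟨Δ, hΔ1, hΔ2, hΔ3⟩ := exists_root E hρ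
  refine ⟨Δ, mem_F1_of E hΔ1 hΔ2, mem_F2_of E hΔ1 hΔ2, fun u hu => hom_up_of E hΔ1 hΔ2 hu, ?_⟩
  let β := Module.finBasis K V
  choose m hm using fun i => hσ (β.coord i) v₀
  choose N hN using fun i => hΔ3 (m i)
  refine ⟨1 + ∑ i, N i, fun k hk => ?_⟩
  have hk0 : k ≠ 0 := by omega
  have hkN : ∀ i, N i ≤ k := fun i => by
    have := Finset.single_le_sum (f := N) (fun _ _ => Nat.zero_le _) (Finset.mem_univ i)
    omega
  choose a ha ha0 using fun i => hN i k (hkN i)
  let Ψ : Pt K A K → V := fun g => ∑ i, g.hom (a i) • β i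
  have hcell : ∀ (x : idx → K) (t : TPt M K), Ψ (E.cell x t) =
      TPt.ch (k • ρ) t • σ (ptConv hc K (negP E x)) v₀ := by
    intro x t
    have h1 : σ (ptConv hc K (negP E x)) v₀ = ∑ i, (negP E x).hom (m i) • β i := by
      conv_lhs => rw [← β.sum_repr (σ (ptConv hc K (negP E x)) v₀)]
      refine Finset.sum_congr rfl fun i _ => ?_
      congr 1
      exact hm i _
    rw [h1, Finset.smul_sum]
    refine Finset.sum_congr rfl fun i _ => ?_
    rw [ha, smul_smul]
    congr 2
    exact (ch_nsmul k ρ t).symm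
  have hzero : ∀ g, ¬ InC E g → Ψ g = 0 := by
    intro g hg
    refine Finset.sum_eq_zero fun i _ => ?_
    rw [ha0 i g hg, zero_smul]
  refine ⟨Ψ, ?_, ?_, ?_, ?_⟩
  · intro f
    refine ⟨∑ i, f (β i) • a i, fun g => ?_⟩
    change f (∑ i, g.hom (a i) • β i) = _
    rw [map_sum, map_sum]
    refine Finset.sum_congr rfl fun i _ => ?_
    rw [map_smul, map_smul, smul_eq_mul, smul_eq_mul, mul_comm]
  · intro u hu t g
    by_cases hg : InC E g
    · obtain ⟨x, t', v, hv, hx, hx'⟩ := exists_of_inC E hg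
      have e1 : u * E.i K t * g = (u * (E.i K t * negP E x * (E.i K t)⁻¹)) * E.i K (t * t') * v := by
        rw [hx, map_mul]
        group
      obtain ⟨y, hy, hy'⟩ := eq_cell E (mul_mem hu (conj_i_mem_Um E t (negP_mem_Um E x))) hv (t * t')
      rw [e1, hy, hcell, hy', hx', hcell, TPt.ch_mul, map_smul, smul_smul]
      congr 1
      rw [← Module.End.mul_apply, ← map_mul, ← map_mul]
      have e2 : u * (E.i K t * negP E x * (E.i K t)⁻¹) = u * E.i K t * negP E x * (E.i K t)⁻¹ := by group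
      rw [e2, map_mul (ptConv hc K) (u * E.i K t * negP E x), map_mul σ, Module.End.mul_apply, ← i_inv, hv₀]
    · have : ¬ InC E (u * E.i K t * g) := by
        rw [mul_assoc, inC_um_mul E hu, inC_i_mul]
        exact hg
      rw [hzero _ this, hzero _ hg, map_zero, smul_zero]
  · intro u hu t g
    by_cases hg : InC E g
    · obtain ⟨x, t', v, hv, hx, hx'⟩ := exists_of_inC E hg
      have e1 : g * E.i K t * u = negP E x * E.i K (t' * t) * ((E.i K t)⁻¹ * v * E.i K t * u) := by
        rw [hx, map_mul]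
        group
      have e2 : (E.i K t)⁻¹ * v * E.i K t * u ∈ Up E K := by
        refine mul_mem ?_ hu
        have := conj_i_mem_Up E t⁻¹ hv
        rwa [i_inv, inv_inv] at this
      obtain ⟨y, hy, hy'⟩ := eq_cell E (negP_mem_Um E x) e2 (t' * t)
      rw [e1, hy, hcell, hy', hx', hcell, TPt.ch_mul, smul_smul, mul_comm]
    · have : ¬ InC E (g * E.i K t * u) := by
        rw [inC_mul_bor E (Up_le_Bor E hu), inC_mul_bor E (i_mem_Bor E t)]
        exact hg
      rw [hzero _ this, hzero _ hg, smul_zero]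
  · intro φ hφ g
    by_cases hg : InC E g
    · obtain ⟨x, t, hx⟩ := hg
      rw [hx, hcell, map_smul, hφ, map_pow, hΔ1, smul_eq_mul, mul_comm]
      congr 1
      exact ch_nsmul k ρ t
    · rw [hzero _ hg, map_zero, map_pow, hΔ2 _ hg, zero_pow hk0, mul_zero]

/-- evaluation of functions at the points of the convolution group -/
noncomputable def evL (K A : Type u) [Field K] [CommRing A] [HopfAlgebra K A] : A →ₗ[K] (RG.Pt K A → K) where
  toFun a g := g.ofConv a
  map_add' a a' := by funext g; exact map_add _ _ _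
  map_smul' c a := by funext g; exact map_smul _ _ _

include hc E in
/-- **Haboush's theorem, pinned case.** -/
theorem geomRed_of_pin [IsAlgClosed K] [IsDomain A] [IsIntegrallyClosed A] {p : ℕ} [Fact p.Prime] [CharP K p]
    {ρ : M} (hρ : ρ + ρ = tworho b) : GeomRed K A := by
  classical
  intro V _ _ _ σ hσ φ hφ hφ0
  obtain ⟨v₀, hv₀, hφv⟩ := exists_fixed hc E hσ hφ hφ0
  obtain ⟨Δ, hΔ1, hΔ2, hΔU, N, hN⟩ := exists_Psi hc E hσ hρ v₀ hv₀
  have hp : p.Prime := Fact.out
  -- the exponent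
  obtain ⟨r, hr⟩ : ∃ r : ℕ, N ≤ p ^ r - 1 := by
    refine ⟨N + 1, ?_⟩
    have := Nat.lt_pow_self hp.one_lt (n := N + 1)
    omega
  set k := p ^ r - 1 with hk
  obtain ⟨Ψ, hΨ, hΨ1, hΨ2, hΨφ⟩ := hN k hr
  have hlam : ∀ γ ∈ b.support, P.coroot γ (k • ρ) = ((p ^ r - 1 : ℕ) : ℤ) := by
    intro γ hγ
    rw [map_nsmul, coroot_root_one E hρ hγ, nsmul_eq_mul, mul_one]
  have hΛ1 : Δ ^ k ∈ F1 E (k • ρ) := F1.pow E hΔ1 k
  have hΛ2 : Δ ^ k ∈ F2 E (k • ρ) := F2.pow E hΔ2 k
  have hΛU : ∀ u ∈ Up E K, u.hom (Δ ^ k) = 1 := fun u hu => by rw [map_pow, hΔU u hu, one_pow]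
  obtain ⟨l, hl, hlong⟩ := exists_red_longest b
  obtain ⟨g, h, hdet⟩ := exists_det_points E hlam hΛ1 hΛ2 hΛU hl hρ rfl (by
    rw [map_nsmul, wl'_neg_of_root hρ hlong, smul_neg])
  obtain ⟨hfin1, hle1⟩ := finrank_F1_le (p := p) (r := r) E hlam hΛ1 hΛU
  obtain ⟨hfin2, hle2⟩ := finrank_F2_le E hl.support hlong (lam := k • ρ) (by
    rw [map_nsmul, wl_neg_of_root hρ hlong, smul_neg])
  let e := ptConv hc K
  let F := (F1 E (k • ρ)).map (evL K A)
  let F' := (F2 E (k • ρ)).map (evL K A)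
  have hcard : Fintype.card (PI b → Fin (p ^ r)) = (p ^ r) ^ Fintype.card (PI b) := by
    rw [Fintype.card_fun, Fintype.card_fin]
  have hF : Module.finrank K F ≤ Fintype.card (PI b → Fin (p ^ r)) := by
    rw [hcard]
    exact (Submodule.finrank_map_le _ _).trans hle1
  have hF' : Module.finrank K F' ≤ Fintype.card (PI b → Fin (p ^ r)) := by
    rw [hcard]
    exact ((Submodule.finrank_map_le _ _).trans hle2).trans hle1
  let NN : RG.Pt K A → RG.Pt K A → V := fun x y => σ x⁻¹ (Ψ (e.symm (x * y)))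
  have hNN : ∀ x y : Pt K A K, NN (e x) (e y) = σ (e x)⁻¹ (Ψ (x * y)) := by
    intro x y
    change σ (e x)⁻¹ (Ψ (e.symm (e x * e y))) = _
    rw [← map_mul, MulEquiv.symm_apply_apply]
  let β := Module.finBasis K V
  choose a ha using fun i => hΨ (β.coord i)
  have hexp : ∀ (f : Module.Dual K V) (x y : RG.Pt K A), f (NN x y) =
      ∑ i, (x * y) (a i) * f (σ x⁻¹ (β i)) := by
    intro f x y
    have h1 : Ψ (e.symm (x * y)) = ∑ i, (x * y) (a i) • β i := by
      conv_lhs => rw [← β.sum_repr (Ψ (e.symm (x * y)))]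
      refine Finset.sum_congr rfl fun i _ => ?_
      congr 1
      exact ha i _
    change f (σ x⁻¹ (Ψ (e.symm (x * y)))) = _
    rw [h1, map_sum, map_sum]
    refine Finset.sum_congr rfl fun i _ => ?_
    rw [map_smul, map_smul, smul_eq_mul]
  obtain ⟨S, hS1, hS2⟩ := det_trick (ι := PI b → Fin (p ^ r)) σ φ hφ F F' hF hF' NN (by
    intro f y
    have hfun : RG.IsFun fun x : RG.Pt K A => f (NN x y) := by
      simp only [hexp]
      refine RG.IsFun.sum Finset.univ fun i _ => ?_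
      exact ((RG.isFun_apply (a i)).comp_reg (RG.isReg_id.mul_const y)).mul
        ((hσ.isFun f (β i)).comp_reg RG.isReg_inv)
    obtain ⟨c, hc'⟩ := hfun
    refine ⟨c, ?_, ?_⟩
    · intro u hu t x
      obtain ⟨y, rfl⟩ := e.surjective y
      have h1 := hc' (e (u * E.i K t * x))
      have h2 := hc' (e x)
      beta_reduce at h1 h2
      rw [hNN] at h1 h2
      refine h1.symm.trans (Eq.trans ?_ (congrArg (fun z => TPt.ch (k • ρ) t * z) h2))
      rw [mul_assoc (u * E.i K t), hΨ1 u hu, map_smul, map_smul, smul_eq_mul, ← Module.End.mul_apply,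
        ← map_mul σ]
      have h3 : (e (u * E.i K t * x))⁻¹ * ptConv hc K (u * E.i K t) = (e x)⁻¹ := by
        change (e (u * E.i K t * x))⁻¹ * e (u * E.i K t) = (e x)⁻¹
        rw [map_mul e _ x]
        group
      rw [h3]
    · funext x
      exact (hc' x).symm) (by
    intro f x
    have hfun : RG.IsFun fun y : RG.Pt K A => f (NN x y) := by
      simp only [hexp]
      refine RG.IsFun.sum Finset.univ fun i _ => ?_
      exact ((RG.isFun_apply (a i)).comp_reg (RG.isReg_id.const_mul x)).mul (RG.isFun_const _)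
    obtain ⟨c, hc'⟩ := hfun
    refine ⟨c, ?_, ?_⟩
    · intro u hu t y
      obtain ⟨x, rfl⟩ := e.surjective x
      have h1 := hc' (e (y * E.i K t * u))
      have h2 := hc' (e y)
      beta_reduce at h1 h2
      rw [hNN] at h1 h2
      refine h1.symm.trans (Eq.trans ?_ (congrArg (fun z => TPt.ch (k • ρ) t * z) h2))
      rw [← mul_assoc, ← mul_assoc, hΨ2 u hu, map_smul, map_smul, smul_eq_mul]
    · funext y
      exact (hc' y).symm) (by
    intro x y z
    change σ x (σ (y * x)⁻¹ (Ψ (e.symm (y * x * (x⁻¹ * z))))) = σ y⁻¹ (Ψ (e.symm (y * z)))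
    rw [← Module.End.mul_apply, ← map_mul]
    have h1 : x * (y * x)⁻¹ = y⁻¹ := by group
    have h2 : y * x * (x⁻¹ * z) = y * z := by group
    rw [h1, h2]) (fun i => e (g i)) (fun j => e (h j)) (by
    convert hdet using 3
    funext i j
    rw [hNN, hφ, hΨφ φ hφ, hφv, one_mul])
  exact ⟨_, Fintype.card_pos_iff.2 ⟨fun _ => ⟨0, pow_pos hp.pos r⟩⟩, S, hS1, hS2⟩

end main

end K702.Hab
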