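import Groth.Agent.AGF.K702.Mult

/-!
# A semi-invariant function which is left invariant under the simple root groups on `U⁺`

is a multiple of any semi-invariant function `Λ` with values `1` on `U⁺`.
-/

set_option autoImplicit false
set_option linter.unusedSectionVars false
universe u

namespace K702.Hab

open Groth.Agent.Sga3B Groth.Agent.Sga3B.Cell Groth.Agent.Sga3B.Word Groth.Agent.Sga3B.MT
open Groth.Agent.RedSub.H638.WeylBase Groth.Agent.RedSub.H638.WeylCover
open Groth.Agent.RedSub.H662 Panel PosPt Homog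

variable {idx M : Type} [Fintype idx] [AddCommGroup M] [Module.Free ℤ M]
    [Module.Finite ℤ M] {P : RootPairing idx ℤ M (Module.Dual ℤ M)} {b : P.Base}
    {K A : Type u} [Field K] [CommRing A] [Algebra K A] [PtGrp K A]
    (E : PinCell P b K A)

lemma dtf_ne_zero : dtf E ≠ 0 := by
  intro h0
  have h1 := hom_dtf E (1 : Pt K A K)
  rw [h0, map_zero, dt_one] at h1
  exact zero_ne_one h1

lemma ltr_dtf_ne_zero (g : Pt K A K) : ltr g (dtf E) ≠ 0 := by
  intro h0
  have h1 := hom_ltr g⁻¹ g (dtf E)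
  rw [h0, map_zero, mul_inv_cancel, hom_dtf, dt_one] at h1
  exact zero_ne_one h1

variable [IsAlgClosed K] [IsDomain A] {lam : M} {Λ : A} (hΛ : Λ ∈ F1 E lam)
  (hΛ1 : ∀ u ∈ Up E K, u.hom Λ = 1)

include hΛ hΛ1

/-- the value in the big cell -/
lemma hom_of_cell {a : A} (ha : a ∈ F1 E lam) {u y : Pt K A K} (hu : u ∈ Um E K) (t : TPt M K) :
    (u * E.i K t * y).hom a = TPt.ch lam t * y.hom a := ha u hu t y

/-- **the key relation** -/
lemma rel_uu {γ : idx} (hγ : γ ∈ b.support) {a : A} (ha : a ∈ F1 E lam) (s₀ : K)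
    (hinv : ∀ (s : K), ∀ u ∈ Up E K, (E.uu γ K s * u).hom a = u.hom a) :
    ltr (E.uu γ K s₀) a * Λ = a * ltr (E.uu γ K s₀) Λ := by
  have hpos := RootPairing.Base.isPos_of_mem_support hγ
  set g := E.uu γ K s₀ with hg
  have h0 : (ltr g a * Λ - a * ltr g Λ) * (dtf E * ltr g (dtf E)) = 0 := by
    apply eq_of_hom E
    intro x
    simp only [map_mul, map_sub, hom_ltr, map_zero]
    by_cases hx : InC E x
    · by_cases hgx : InC E (g * x)
      · rw [inC_iff] at hx
        obtain ⟨_, ⟨c, rfl⟩, β, hβ, hxβ⟩ := hx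
        have hv : 1 + s₀ * c (P.reflectionPerm γ γ) ≠ 0 := by
          rw [← inC_uu_mul E hγ s₀ c hβ, ← hxβ]
          exact hgx
        obtain ⟨w, hw, hsplit⟩ := exists_split_Wm E hγ c
        obtain ⟨_, ⟨d, rfl⟩, t, rfl⟩ := hβ
        set v : Kˣ := Units.mk0 _ hv with hvdef
        set z := c (P.reflectionPerm γ γ) with hz
        have hr1 := E.rank1 γ hγ s₀ z v rfl
        have hw' := conj_uu_mem_Wm E hγ hw s₀
        -- `y' = i(t)⁻¹ posP d i(t)`
        set y := (E.i K t)⁻¹ * posP E d * E.i K t with hy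
        have hyU : y ∈ Up E K := by
          have := conj_i_mem_Up E t⁻¹ (posP_mem_Up E d)
          rwa [i_inv, inv_inv] at this
        have hx1 : x = negP E c * E.i K t * y := by
          rw [hxβ, hy]; group
        have hgx1 : g * x = (g * w * g⁻¹ * E.uu (P.reflectionPerm γ γ) K ((v⁻¹ : Kˣ) * z)) *
            E.i K (TPt.cow (P.coroot γ) v) * (E.i K t * (E.i K t⁻¹ *
              E.uu γ K ((v⁻¹ : Kˣ) * s₀) * (E.i K t⁻¹)⁻¹ * y)) := by
          have h1 : g * x = (g * w * g⁻¹) * (g * E.uu (P.reflectionPerm γ γ) K z) * E.i K t * y := by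
            rw [hx1, hsplit]; group
          rw [h1, hr1, i_inv]
          group
        have hum : g * w * g⁻¹ * E.uu (P.reflectionPerm γ γ) K ((v⁻¹ : Kˣ) * z) ∈ Um E K :=
          mul_mem (Wm_le_Um E hγ hw') (uu_mem_Um E (not_isPos_neg hγ) _)
        have hval : ∀ a' : A, a' ∈ F1 E lam → (∀ (s : K), ∀ u ∈ Up E K,
            (E.uu γ K s * u).hom a' = u.hom a') →
            (g * x).hom a' = TPt.ch lam (TPt.cow (P.coroot γ) v) * (TPt.ch lam t * y.hom a') := by
          intro a' ha' hinv'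
          rw [hgx1, ha' _ hum, F1.i E ha', E.rel, hinv' _ _ hyU]
        have hΛinv : ∀ (s : K), ∀ u ∈ Up E K, (E.uu γ K s * u).hom Λ = u.hom Λ := by
          intro s u hu
          rw [hΛ1 _ hu, hΛ1 _ (mul_mem (uu_mem_Up E hpos s) hu)]
        rw [hval a ha hinv, hval Λ hΛ hΛinv, hx1, ha _ (negP_mem_Um E c), hΛ _ (negP_mem_Um E c)]
        ring
      · have h2 : (g * x).hom (dtf E) = 0 := by
          rw [hom_dtf]
          by_contra h0
          exact hgx (inC_of_dt_ne_zero E h0)
        rw [h2, mul_zero, mul_zero]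
    · have h2 : x.hom (dtf E) = 0 := by
        rw [hom_dtf]
        by_contra h0
        exact hx (inC_of_dt_ne_zero E h0)
      rw [h2, zero_mul, mul_zero]
  have h1 := (mul_eq_zero.1 h0).resolve_right (mul_ne_zero (dtf_ne_zero E) (ltr_dtf_ne_zero E g))
  exact sub_eq_zero.1 h1

/-- **Proportionality.** -/
theorem eq_smul_of_inv {a : A} (ha : a ∈ F1 E lam)
    (hinv : ∀ γ ∈ b.support, ∀ (s : K), ∀ u ∈ Up E K, (E.uu γ K s * u).hom a = u.hom a)
    (g : Pt K A K) : g.hom a = (1 : Pt K A K).hom a * g.hom Λ := by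
  have hΛne : ∀ g : Pt K A K, ltr g Λ ≠ 0 := by
    intro g h0
    have h1 := hom_ltr g⁻¹ g Λ
    rw [h0, map_zero, mul_inv_cancel, hΛ1 1 (one_mem _)] at h1
    exact zero_ne_one h1
  have hΛ0 : Λ ≠ 0 := by
    intro h0
    have h1 := hΛ1 1 (one_mem _)
    rw [h0, map_zero] at h1
    exact zero_ne_one h1
  have hll : ∀ (g h : Pt K A K) (a : A), ltr h (ltr g a) = ltr (g * h) a := by
    intro g h a
    apply eq_of_hom E
    intro x
    rw [hom_ltr, hom_ltr, hom_ltr, mul_assoc]
  have hl1 : ∀ a : A, ltr (1 : Pt K A K) a = a := by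
    intro a
    apply eq_of_hom E
    intro x
    rw [hom_ltr, one_mul]
  let S : Subgroup (Pt K A K) :=
    { carrier := {g | ltr g a * Λ = a * ltr g Λ}
      one_mem' := by
        change ltr 1 a * Λ = a * ltr 1 Λ
        rw [hl1, hl1]
      mul_mem' := by
        intro g h hg hh
        change ltr (g * h) a * Λ = a * ltr (g * h) Λ
        have h1 := congrArg (ltr h) (show ltr g a * Λ = a * ltr g Λ from hg)
        rw [map_mul, map_mul, hll, hll] at h1
        have h2 : ltr h a * Λ = a * ltr h Λ := hh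
        apply mul_left_cancel₀ (hΛne h)
        linear_combination Λ * h1 + ltr (g * h) Λ * h2
      inv_mem' := by
        intro g hg
        change ltr g⁻¹ a * Λ = a * ltr g⁻¹ Λ
        have h1 := congrArg (ltr g⁻¹) (show ltr g a * Λ = a * ltr g Λ from hg)
        rw [map_mul, map_mul, hll, hll, mul_inv_cancel, hl1, hl1] at h1
        exact h1.symm }
  have hS : ∀ g : Pt K A K, g ∈ S := by
    intro g
    have hle : gen E K ≤ S := by
      unfold gen
      rw [Subgroup.closure_le]
      rintro _ (⟨t, rfl⟩ | ⟨γ, hγ, s, rfl | rfl⟩)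
      · change ltr _ a * Λ = a * ltr _ Λ
        apply eq_of_hom E
        intro x
        rw [map_mul, map_mul, hom_ltr, hom_ltr, F1.i E ha, F1.i E hΛ]
        ring
      · exact rel_uu E hΛ hΛ1 hγ ha s (hinv γ hγ)
      · change ltr _ a * Λ = a * ltr _ Λ
        apply eq_of_hom E
        intro x
        rw [map_mul, map_mul, hom_ltr, hom_ltr, F1.um E ha (uu_mem_Um E (not_isPos_neg hγ) _),
          F1.um E hΛ (uu_mem_Um E (not_isPos_neg hγ) _)]
    exact hle (mem_gen_of_isAlgClosed E g)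
  have h1 := congrArg (1 : Pt K A K).hom (show ltr g a * Λ = a * ltr g Λ from hS g)
  rw [map_mul, map_mul, hom_ltr, hom_ltr, mul_one, hΛ1 1 (one_mem _), mul_one] at h1
  exact h1

end K702.Hab
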