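import Groth.Agent.AGF.K702.AdDet
import Mathlib.RingTheory.IntegralClosure.IntegrallyClosed

/-!
# The function `Δ` with values `ρ(t)` on the big cell

`K` algebraically closed, `A` an integrally closed domain and `ρ` a character with `2 ρ` the sum of the
positive roots.  `exists_root`: there is `Δ ∈ A` with value `ρ(t)` at `u⁻ i(t) u⁺` and `0` outside of the
big cell, and the products of large powers of `Δ` with functions of `u⁻` are regular.
-/

set_option autoImplicit false
set_option linter.unusedSectionVars false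
universe u

namespace K702.Hab

open Groth.Agent.Sga3B Groth.Agent.Sga3B.Cell Groth.Agent.Sga3B.Word Groth.Agent.Sga3B.MT
open Groth.Agent.RedSub.H638.WeylBase Groth.Agent.RedSub.H638.WeylCover
open Groth.Agent.RedSub.H662 Panel PosPt Homog

variable {idx M : Type} [Fintype idx] [AddCommGroup M] [Module.Free ℤ M]
    [Module.Finite ℤ M] {P : RootPairing idx ℤ M (Module.Dual ℤ M)} {b : P.Base}
    {K A : Type u} [Field K] [IsAlgClosed K] [CommRing A] [Algebra K A] [PtGrp K A]
    (E : PinCell P b K A)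

/-- the big cell over the localization -/
lemma exists_cell_away : ∃ (x : idx → Localization.Away (dtf E)) (t : TPt M (Localization.Away (dtf E))),
    Pt.map (IsScalarTower.toAlgHom K A (Localization.Away (dtf E))) (upt K A) = E.cell x t := by
  set L := Localization.Away (dtf E) with hL
  let ι : A →ₐ[K] L := IsScalarTower.toAlgHom K A L
  have hfp := E.fp
  have hft : Algebra.FiniteType K A := inferInstance
  have hftL : Algebra.FiniteType K L :=
    Algebra.FiniteType.trans hft (by
      have : Algebra.FinitePresentation A L := IsLocalization.Away.finitePresentation (dtf E)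
      infer_instance)
  change ∃ (x : idx → L) (t : TPt M L), Pt.map ι (upt K A) =
    ((allList b).map (fun a => E.uu a L (x a))).prod * E.i L t
  rw [E.mem_cell_iff]
  by_contra hne
  set J := E.cellIdeal.map (Pt.map ι (upt K A)).hom.toRingHom with hJ
  have hnil : ¬ IsNilpotent (1 : L ⧸ J) := by
    have : Nontrivial (L ⧸ J) := Ideal.Quotient.nontrivial_iff.2 hne
    exact not_isNilpotent_one
  obtain ⟨s, -⟩ := exists_point_ne_zero K hnil
  let f : L →ₐ[K] K := s.comp (Ideal.Quotient.mkₐ K J)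
  let g : Pt K A K := Pt.map (f.comp ι) (upt K A)
  have hg : InC E g := by
    apply inC_of_dt_ne_zero
    rw [← hom_dtf]
    change f (ι (dtf E)) ≠ 0
    exact ((IsLocalization.Away.algebraMap_isUnit (dtf E)).map f).ne_zero
  have h1 : E.cellIdeal.map g.hom.toRingHom = ⊤ := (E.mem_cell_iff g).1 hg
  have h2 : E.cellIdeal.map g.hom.toRingHom ≤ ⊥ := by
    rw [Ideal.map_le_iff_le_comap]
    intro a ha
    change f (ι a) = 0
    change s (Ideal.Quotient.mk J (ι a)) = 0
    have h3 : Ideal.Quotient.mk J (ι a) = 0 := by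
      rw [Ideal.Quotient.eq_zero_iff_mem]
      exact Ideal.mem_map_of_mem _ ha
    rw [h3, map_zero]
  rw [h1] at h2
  exact bot_ne_top (top_le_iff.1 h2).symm.symm

variable [IsDomain A] [IsIntegrallyClosed A]

/-- **The function with values `ρ(t)`.** -/
theorem exists_root {ρ : M} (hρ : ρ + ρ = tworho b) : ∃ Δ : A,
    (∀ (x : idx → K) (t : TPt M K), (E.cell x t).hom Δ = TPt.ch ρ t) ∧
    (∀ g : Pt K A K, ¬ InC E g → g.hom Δ = 0) ∧
    ∀ m : A, ∃ N : ℕ, ∀ k ≥ N, ∃ a : A,
      (∀ (x : idx → K) (t : TPt M K), (E.cell x t).hom a = TPt.ch ρ t ^ k * (negP E x).hom m) ∧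
      ∀ g : Pt K A K, ¬ InC E g → g.hom a = 0 := by
  set D := dtf E with hD
  have hD0 : D ≠ 0 := by
    intro h0
    have h1 := hom_dtf E (1 : Pt K A K)
    rw [← hD, h0, map_zero, dt_one] at h1
    exact zero_ne_one h1
  set L := Localization.Away D with hL
  let ι : A →ₐ[K] L := IsScalarTower.toAlgHom K A L
  obtain ⟨x, t, hxt⟩ := exists_cell_away E
  change Pt.map ι (upt K A) = E.cell x t at hxt
  have hι : Function.Injective ι :=
    IsLocalization.injective L (powers_le_nonZeroDivisors_of_noZeroDivisors hD0)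
  have hDx : ι D = TPt.ch (tworho b) t := by
    have h1 := dt_cell' E x t
    rw [← hxt, dt_nat] at h1
    exact h1
  have hsq : (TPt.ch ρ t : L) ^ 2 = ι D := by
    rw [hDx, ← hρ, TPt.ch_add, sq]
  -- the root
  obtain ⟨Δ, hΔ⟩ : ∃ Δ : A, ι Δ = TPt.ch ρ t := by
    let F := FractionRing A
    have hu : ∀ y : Submonoid.powers D, IsUnit (algebraMap A F y) := by
      rintro ⟨_, n, rfl⟩
      refine IsUnit.mk0 _ ?_
      rw [map_pow]
      exact pow_ne_zero _ fun h0 => hD0 (IsFractionRing.injective A F (by rw [h0, map_zero]))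
    let j : L →+* F := IsLocalization.lift (M := Submonoid.powers D) hu
    have hj : ∀ a, j (ι a) = algebraMap A F a := fun a => IsLocalization.lift_eq hu a
    have hjinj : Function.Injective j := by
      rw [IsLocalization.lift_injective_iff]
      intro x y
      exact ⟨fun h4 => congrArg _ (hι h4), fun h4 => congrArg ι (IsFractionRing.injective A F h4)⟩
    have hint : IsIntegral A (j (TPt.ch ρ t)) := by
      refine ⟨Polynomial.X ^ 2 - Polynomial.C D, Polynomial.monic_X_pow_sub_C D two_ne_zero, ?_⟩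
      rw [Polynomial.eval₂_sub, Polynomial.eval₂_pow, Polynomial.eval₂_X, Polynomial.eval₂_C,
        ← map_pow, hsq, hj, sub_self]
    obtain ⟨Δ, hΔ⟩ := IsIntegrallyClosed.isIntegral_iff.mp hint
    exact ⟨Δ, hjinj (by rw [hj, hΔ])⟩
  have hΔsq : Δ ^ 2 = D := hι (by rw [map_pow, hΔ, hsq])
  -- extension of points of the cell
  have hext : ∀ (x₀ : idx → K) (t₀ : TPt M K), ∃ f : L →ₐ[K] K,
      (∀ a, f (ι a) = (E.cell x₀ t₀).hom a) ∧ (fun c => f (x c)) = x₀ ∧ TPt.map f t = t₀ := by
    intro x₀ t₀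
    set g := E.cell x₀ t₀ with hg
    have hgD : IsUnit (g.hom D) := by
      rw [hD, hom_dtf, hg, dt_cell']
      exact TPt.isUnit_ch _ _
    have hu : ∀ y : Submonoid.powers D, IsUnit (g.hom y) := by
      rintro ⟨_, n, rfl⟩
      change IsUnit (g.hom (D ^ n))
      rw [map_pow]
      exact hgD.pow n
    let f : L →ₐ[K] K := IsLocalization.liftAlgHom (M := Submonoid.powers D) hu
    have hf : ∀ a, f (ι a) = g.hom a := fun a => IsLocalization.lift_eq _ a
    have h1 : E.cell (fun c => f (x c)) (TPt.map f t) = E.cell x₀ t₀ := by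
      rw [← E.cell_nat, ← hxt, ← hg]
      apply Pt.ext
      intro a
      exact hf a
    obtain ⟨h2, h3⟩ := E.cell_injective h1
    exact ⟨f, hf, h2, h3⟩
  have hval : ∀ (x₀ : idx → K) (t₀ : TPt M K), (E.cell x₀ t₀).hom Δ = TPt.ch ρ t₀ := by
    intro x₀ t₀
    obtain ⟨f, h1, -, h3⟩ := hext x₀ t₀
    rw [← h1, hΔ, ← TPt.ch_map, h3]
  have hzero : ∀ g : Pt K A K, ¬ InC E g → g.hom Δ = 0 := by
    intro g hg
    have h1 : dt E g = 0 := by
      by_contra h0
      exact hg (inC_of_dt_ne_zero E h0)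
    rw [← hom_dtf, ← hD, ← hΔsq, map_pow] at h1
    exact pow_eq_zero_iff two_ne_zero |>.1 h1
  refine ⟨Δ, hval, hzero, fun m => ?_⟩
  -- the function of `u⁻`
  set F : L := (negP E x).hom m with hF
  obtain ⟨⟨a', ⟨_, n, rfl⟩⟩, ha'⟩ := IsLocalization.surj (Submonoid.powers D) F
  change F * ι (D ^ n) = ι a' at ha'
  refine ⟨2 * n + 1, fun k hk => ⟨Δ ^ (k - 2 * n) * a', fun x₀ t₀ => ?_, fun g hg => ?_⟩⟩
  · obtain ⟨f, h1, h2, h3⟩ := hext x₀ t₀
    rw [map_mul, map_pow, hval]
    have h4 : (E.cell x₀ t₀).hom a' = TPt.ch ρ t₀ ^ (2 * n) * (negP E x₀).hom m := by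
      have h6 : (E.cell x₀ t₀).hom (D ^ n) = TPt.ch ρ t₀ ^ (2 * n) := by
        rw [map_pow, show (E.cell x₀ t₀).hom D = TPt.ch ρ t₀ ^ 2 by
          rw [← hval x₀, ← map_pow]; exact congrArg _ hΔsq.symm, ← pow_mul]
      rw [← h1, ← ha', map_mul, h1, h6, mul_comm]
      congr 1
      rw [hF]
      have h5 : Pt.map f (negP E x) = negP E x₀ := by
        rw [map_negP, h2]
      rw [← h5]
      rfl
    rw [h4, ← mul_assoc, ← pow_add]
    congr 2
    omega
  · rw [map_mul, map_pow, hzero g hg, zero_pow (by omega), zero_mul]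

end K702.Hab
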