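import Groth.Agent.AGF.K702.Root

/-!
# Semi-invariant functions

`F1 E lam` : the functions `a` with `a(b⁻ g) = lam(b⁻) a(g)`.  For `a` in it and a simple root `γ` the polynomial
`s ↦ a(u_γ(s) g)` has degree at most `⟨lam, γ^∨⟩` and its leading coefficient is `a(n_γ g)`.
-/

set_option autoImplicit false
set_option linter.unusedSectionVars false
universe u

namespace K702.Hab

open Groth.Agent.Sga3B Groth.Agent.Sga3B.Cell Groth.Agent.Sga3B.Word Groth.Agent.Sga3B.MT
open Groth.Agent.RedSub.H638.WeylBase Groth.Agent.RedSub.H638.WeylCover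
open Groth.Agent.RedSub.H662 Panel PosPt Homog
open Polynomial

/-! ### a lemma on polynomials -/

section poly

variable {K : Type*} [Field K] [Infinite K]

lemma eq_of_eval_ne_zero {p q : K[X]} (h : ∀ s : K, s ≠ 0 → p.eval s = q.eval s) : p = q := by
  rw [← sub_eq_zero]
  apply Polynomial.eq_zero_of_infinite_isRoot
  refine Set.Infinite.mono (s := {t : K | t ≠ 0}) ?_ ?_
  · intro t ht
    change (p - q).eval t = 0
    rw [eval_sub, h t ht, sub_self]
  · have h2 : {t : K | t ≠ 0} = ({0} : Set K)ᶜ := rfl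
    rw [h2]
    exact Set.Finite.infinite_compl (Set.finite_singleton 0)

/-- if `P(s) = s^m Q(s⁻¹)` then `P` has degree at most `m` and its `m`-th coefficient is `Q(0)` -/
lemma degree_of_inv {P Q : K[X]} {m : ℕ} (h : ∀ s : K, s ≠ 0 → P.eval s = s ^ m * Q.eval s⁻¹) :
    (∀ k, m < k → P.coeff k = 0) ∧ P.coeff m = Q.coeff 0 := by
  classical
  set n := Q.natDegree with hn
  have h1 : X ^ n * P = ∑ j ∈ Finset.range (n + 1), C (Q.coeff j) * X ^ (m + n - j) := by
    apply eq_of_eval_ne_zero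
    intro s hs
    rw [eval_mul, eval_pow, eval_X, h s hs, Polynomial.eval_finsetSum, Polynomial.eval_eq_sum_range,
      Finset.mul_sum, Finset.mul_sum]
    refine Finset.sum_congr rfl fun j hj => ?_
    have hj' : j ≤ n := Nat.lt_succ_iff.1 (Finset.mem_range.1 hj)
    rw [eval_mul, eval_C, eval_pow, eval_X]
    have h2 : s ^ (m + n - j) = s ^ m * s ^ n * (s⁻¹) ^ j := by
      rw [inv_pow, ← pow_add, eq_mul_inv_iff_mul_eq₀ (pow_ne_zero _ hs), ← pow_add]
      congr 1
      omega
    rw [h2]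
    ring
  have h2 : ∀ k, P.coeff k = (∑ j ∈ Finset.range (n + 1), C (Q.coeff j) * X ^ (m + n - j)).coeff (k + n) := by
    intro k
    rw [← h1, Polynomial.coeff_X_pow_mul]
  have h3 : ∀ k, P.coeff k = ∑ j ∈ Finset.range (n + 1), if k + n = m + n - j then Q.coeff j else 0 := by
    intro k
    rw [h2, Polynomial.finsetSum_coeff]
    refine Finset.sum_congr rfl fun j _ => ?_
    rw [Polynomial.coeff_C_mul_X_pow]
  refine ⟨fun k hk => ?_, ?_⟩
  · rw [h3]
    apply Finset.sum_eq_zero
    intro j _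
    rw [if_neg (by omega)]
  · rw [h3, Finset.sum_eq_single 0]
    · rw [if_pos (by omega)]
    · intro j hj hj0
      have := Finset.mem_range.1 hj
      rw [if_neg (by omega)]
    · intro h; exact absurd (Finset.mem_range.2 (Nat.succ_pos _)) h

end poly

variable {idx M : Type} [Fintype idx] [AddCommGroup M] [Module.Free ℤ M]
    [Module.Finite ℤ M] {P : RootPairing idx ℤ M (Module.Dual ℤ M)} {b : P.Base}
    {K A : Type u} [Field K] [CommRing A] [Algebra K A] [PtGrp K A]

/-! ### translations -/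

section tr

/-- right translation of functions -/
noncomputable def rtr (h : Pt K A K) : A →ₐ[K] A := (upt K A * Pt.map (Algebra.ofId K A) h).hom

/-- left translation of functions -/
noncomputable def ltr (h : Pt K A K) : A →ₐ[K] A := (Pt.map (Algebra.ofId K A) h * upt K A).hom

variable (K) in
/-- composition with the inverse -/
noncomputable def invr : A →ₐ[K] A := (upt K A)⁻¹.hom

lemma map_ofId (g h : Pt K A K) : Pt.map g.hom (Pt.map (Algebra.ofId K A) h) = h := by
  rw [Pt.map_map]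
  have : g.hom.comp (Algebra.ofId K A) = AlgHom.id K K := by ext
  rw [this, Pt.map_id]

@[simp] lemma hom_rtr (g h : Pt K A K) (a : A) : g.hom (rtr h a) = (g * h).hom a := by
  have h1 : Pt.map g.hom (upt K A * Pt.map (Algebra.ofId K A) h) = g * h := by
    rw [Pt.map_mul, map_upt, map_ofId]
  exact congrArg (fun k : Pt K A K => k.hom a) h1

@[simp] lemma hom_ltr (g h : Pt K A K) (a : A) : g.hom (ltr h a) = (h * g).hom a := by
  have h1 : Pt.map g.hom (Pt.map (Algebra.ofId K A) h * upt K A) = h * g := by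
    rw [Pt.map_mul, map_upt, map_ofId]
  exact congrArg (fun k : Pt K A K => k.hom a) h1

@[simp] lemma hom_invr (g : Pt K A K) (a : A) : g.hom (invr K a) = g⁻¹.hom a := by
  have h1 : Pt.map g.hom (upt K A)⁻¹ = g⁻¹ := by
    rw [Pt.map_inv, map_upt]
  exact congrArg (fun k : Pt K A K => k.hom a) h1

end tr

variable (E : PinCell P b K A)

/-- functions are determined by their values at the points -/
lemma eq_of_hom [IsAlgClosed K] [IsReduced A] (E : PinCell P b K A) {a a' : A}
    (h : ∀ g : Pt K A K, g.hom a = g.hom a') : a = a' := by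
  have hfp := E.fp
  have hft : Algebra.FiniteType K A := inferInstance
  by_contra hne
  obtain ⟨s, hs⟩ := exists_point_ne_zero K (f := a - a') (by
    rw [isNilpotent_iff_eq_zero, sub_eq_zero]; exact hne)
  apply hs
  rw [map_sub, sub_eq_zero]
  exact h (Pt.mk s)

/-- the functions with `a(b⁻ g) = lam(b⁻) a(g)` -/
def F1 (lam : M) : Submodule K A where
  carrier := {a | ∀ u ∈ Um E K, ∀ (t : TPt M K) (g : Pt K A K),
    (u * E.i K t * g).hom a = TPt.ch lam t * g.hom a}
  zero_mem' := fun u _ t g => by rw [map_zero, map_zero, mul_zero]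
  add_mem' := fun ha hb u hu t g => by rw [map_add, ha u hu t g, hb u hu t g, map_add, mul_add]
  smul_mem' := fun c a ha u hu t g => by
    rw [map_smul, ha u hu t g, map_smul, smul_eq_mul, smul_eq_mul]; ring

lemma mem_F1 {lam : M} {a : A} : a ∈ F1 E lam ↔ ∀ u ∈ Um E K, ∀ (t : TPt M K) (g : Pt K A K),
    (u * E.i K t * g).hom a = TPt.ch lam t * g.hom a := Iff.rfl

/-- the functions with `a(g b⁺) = lam(b⁺) a(g)` -/
def F2 (lam : M) : Submodule K A where
  carrier := {a | ∀ u ∈ Up E K, ∀ (t : TPt M K) (g : Pt K A K),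
    (g * E.i K t * u).hom a = TPt.ch lam t * g.hom a}
  zero_mem' := fun u _ t g => by rw [map_zero, map_zero, mul_zero]
  add_mem' := fun ha hb u hu t g => by rw [map_add, ha u hu t g, hb u hu t g, map_add, mul_add]
  smul_mem' := fun c a ha u hu t g => by
    rw [map_smul, ha u hu t g, map_smul, smul_eq_mul, smul_eq_mul]; ring

lemma mem_F2 {lam : M} {a : A} : a ∈ F2 E lam ↔ ∀ u ∈ Up E K, ∀ (t : TPt M K) (g : Pt K A K),
    (g * E.i K t * u).hom a = TPt.ch lam t * g.hom a := Iff.rfl

lemma rtr_mem_F1 {lam : M} {a : A} (ha : a ∈ F1 E lam) (h : Pt K A K) : rtr h a ∈ F1 E lam := by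
  intro u hu t g
  rw [hom_rtr, hom_rtr, mul_assoc, ha u hu t]

lemma F1.um {lam : M} {a : A} (ha : a ∈ F1 E lam) {u : Pt K A K} (hu : u ∈ Um E K) (g : Pt K A K) :
    (u * g).hom a = g.hom a := by
  have := ha u hu 1 g
  rwa [map_one, mul_one, TPt.ch_one, one_mul] at this

lemma F1.i {lam : M} {a : A} (ha : a ∈ F1 E lam) (t : TPt M K) (g : Pt K A K) :
    (E.i K t * g).hom a = TPt.ch lam t * g.hom a := by
  have := ha 1 (one_mem _) t g
  rwa [one_mul] at this

/-- a semi-invariant function is determined by its values on `U⁺` -/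
lemma F1.eq_zero [IsAlgClosed K] [IsDomain A] {lam : M} {a : A} (ha : a ∈ F1 E lam)
    (h : ∀ u ∈ Up E K, u.hom a = 0) : a = 0 := by
  have hD0 : dtf E ≠ 0 := by
    intro h0
    have h1 := hom_dtf E (1 : Pt K A K)
    rw [h0, map_zero, dt_one] at h1
    exact zero_ne_one h1
  have h1 : a * dtf E = 0 := by
    apply eq_of_hom E
    intro g
    rw [map_mul, map_zero]
    by_cases hg : InC E g
    · obtain ⟨x, t, rfl⟩ := hg
      rw [cell_eq_mul]
      have h2 : negP E x * posP E x * E.i K t =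
          negP E x * E.i K t * ((E.i K t)⁻¹ * posP E x * E.i K t) := by group
      have h3 : (E.i K t)⁻¹ * posP E x * E.i K t ∈ Up E K := by
        have := conj_i_mem_Up E t⁻¹ (posP_mem_Up E x)
        rwa [i_inv, inv_inv] at this
      rw [h2, ha _ (negP_mem_Um E x), h _ h3, mul_zero, zero_mul]
    · have h2 : g.hom (dtf E) = 0 := by
        rw [hom_dtf]
        by_contra h0
        exact hg (inC_of_dt_ne_zero E h0)
      rw [h2, mul_zero]
  exact (mul_eq_zero.1 h1).resolve_right hD0

/-! ### the degree lemma -/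

/-- the polynomial `s ↦ a(u_γ(s) g)` -/
noncomputable def dpol (γ : idx) (g : Pt K A K) (a : A) : K[X] :=
  (E.uu γ K[X] X * Pt.map (Algebra.ofId K K[X]) g).hom a

lemma map_ofId' {B : Type u} [CommRing B] [Algebra K B] (φ : B →ₐ[K] K) (h : Pt K A K) :
    Pt.map φ (Pt.map (Algebra.ofId K B) h) = h := by
  rw [Pt.map_map]
  have : φ.comp (Algebra.ofId K B) = AlgHom.id K K := by ext
  rw [this, Pt.map_id]

lemma eval_dpol (γ : idx) (g : Pt K A K) (a : A) (s : K) :
    (dpol E γ g a).eval s = (E.uu γ K s * g).hom a := by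
  have h1 : Pt.map (Polynomial.aeval s : K[X] →ₐ[K] K) (E.uu γ K[X] X *
      Pt.map (Algebra.ofId K K[X]) g) = E.uu γ K s * g := by
    rw [Pt.map_mul, E.uu_nat, Polynomial.aeval_X, map_ofId']
  have h2 := congrArg (fun k : Pt K A K => k.hom a) h1
  simp only [Pt.map_hom_apply] at h2
  rw [← h2, Polynomial.coe_aeval_eq_eval]
  rfl

variable {γ : idx} (hγ : γ ∈ b.support)

include hγ in
/-- `u_γ(v) = u_{-γ}(r / v) γ^∨(v) n_γ u_{-γ}(1 / v)` -/
theorem degree_lemma [IsAlgClosed K] {lam : M} {m : ℕ} (hm : P.coroot γ lam = m) {a : A}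
    (ha : a ∈ F1 E lam) (g : Pt K A K) :
    (∀ k, m < k → (dpol E γ g a).coeff k = 0) ∧
      (dpol E γ g a).coeff m = (E.nn γ K * g).hom a := by
  have hinf : Infinite K := IsAlgClosed.instInfinite
  obtain ⟨r, hr⟩ := exists_uu_eq E hγ
  let Q : K[X] := (E.nn γ K[X] * E.uu (P.reflectionPerm γ γ) K[X] X *
    Pt.map (Algebra.ofId K K[X]) g).hom a
  have hQ : ∀ s : K, Q.eval s = (E.nn γ K * E.uu (P.reflectionPerm γ γ) K s * g).hom a := by
    intro s
    have h1 : Pt.map (Polynomial.aeval s : K[X] →ₐ[K] K) (E.nn γ K[X] *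
        E.uu (P.reflectionPerm γ γ) K[X] X * Pt.map (Algebra.ofId K K[X]) g) =
        E.nn γ K * E.uu (P.reflectionPerm γ γ) K s * g := by
      rw [Pt.map_mul, Pt.map_mul, E.uu_nat, Polynomial.aeval_X, map_ofId', E.nn_nat]
    have h2 := congrArg (fun k : Pt K A K => k.hom a) h1
    simp only [Pt.map_hom_apply] at h2
    rw [← h2, Polynomial.coe_aeval_eq_eval]
  obtain ⟨h1, h2⟩ := degree_of_inv (P := dpol E γ g a) (Q := Q) (m := m) (by
    intro s hs
    rw [eval_dpol, hQ]
    have h3 := hr (B := K) (Units.mk0 s hs)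
    rw [Units.val_mk0, Units.val_inv_eq_inv_val, Units.val_mk0] at h3
    rw [h3]
    have h4 : E.uu (P.reflectionPerm γ γ) K (algebraMap K K r * s⁻¹) *
        E.i K (TPt.cow (P.coroot γ) (Units.mk0 s hs)) * E.nn γ K *
        E.uu (P.reflectionPerm γ γ) K s⁻¹ * g =
        E.uu (P.reflectionPerm γ γ) K (algebraMap K K r * s⁻¹) *
        E.i K (TPt.cow (P.coroot γ) (Units.mk0 s hs)) * (E.nn γ K *
        E.uu (P.reflectionPerm γ γ) K s⁻¹ * g) := by group
    rw [h4, ha _ (uu_mem_Um E (not_isPos_neg hγ) _), TPt.ch_cow, hm]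
    congr 1)
  refine ⟨h1, h2.trans ?_⟩
  have h3 := hQ 0
  rw [E.uu_zero, mul_one, ← Polynomial.coeff_zero_eq_eval_zero] at h3
  exact h3

end K702.Hab
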